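import Groth.Agent.FibDesc.K781.Desc
import Mathlib.Algebra.Category.Grp.Zero

/-!
# Exactness of the coaugmented alternating coface complex, elementwise; extra codegeneracies
-/

set_option autoImplicit false
set_option backward.isDefEq.respectTransparency false
set_option backward.isDefEq.respectTransparency.types false

universe u v w

open CategoryTheory CategoryTheory.Limits Opposite AlgebraicTopology HomologicalComplex₂ ComplexShape

namespace K781.Desc

open Groth.Agent.Htor.H253.AbQuasi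

/-- Exactness of the coaugmented alternating coface complex, elementwise. -/
structure Ex (F : Dp ⥤ AddCommGrpCat.{w}) : Prop where
  inj : ∀ x : F.obj WithInitial.star, F.map (init (ob 0)) x = 0 → x = 0
  ex₀ : ∀ x : F.obj (ob 0), dd ((rF _).obj F) 0 x = 0 → ∃ y : F.obj WithInitial.star, F.map (init (ob 0)) y = x
  ex : ∀ (n : ℕ) (x : F.obj (ob (n + 1))), dd ((rF _).obj F) (n + 1) x = 0 →
    ∃ y : F.obj (ob n), dd ((rF _).obj F) n y = x

lemma eq_zero_of_isZero {A : AddCommGrpCat.{w}} (hA : IsZero A) (x : A) : x = 0 := by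
  have := AddCommGrpCat.subsingleton_of_isZero hA
  exact Subsingleton.elim x 0

section

variable (F : Dp ⥤ AddCommGrpCat.{w})

/-- The iso in degree `0`. -/
noncomputable abbrev σ₀ : ((HomologicalComplex.single AddCommGrpCat.{w} (up ℤ) 0).obj
    (F.obj WithInitial.star)).X 0 ≅ F.obj WithInitial.star :=
  HomologicalComplex.singleObjXSelf (up ℤ) 0 (F.obj WithInitial.star)

lemma θ_aug (x : ((HomologicalComplex.single AddCommGrpCat.{w} (up ℤ) 0).obj
    (F.obj WithInitial.star)).X 0) :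
    (θ ((rF _).obj F) 0 0 rfl).hom (((aug _).app F).f 0 x) = F.map (init (ob 0)) ((σ₀ F).hom x) :=
  congr($(augApp_f_zero F) x)

variable {F}

lemma θ_dd (P : SimplexCategory ⥤ AddCommGrpCat.{w}) (n : ℕ) (j j' : ℤ) (h : (n : ℤ) = j)
    (h' : ((n + 1 : ℕ) : ℤ) = j') (x : ((cf _).obj P).X j) :
    (θ P (n + 1) j' h').hom (((cf _).obj P).d j j' x) = dd P n ((θ P n j h).hom x) :=
  congr($(θ_d P n j j' h h') x)

lemma hom_inv {A B : AddCommGrpCat.{w}} (e : A ≅ B) (x : A) : e.inv (e.hom x) = x :=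
  congr($(e.hom_inv_id) x)

lemma inv_hom {A B : AddCommGrpCat.{w}} (e : A ≅ B) (x : B) : e.hom (e.inv x) = x :=
  congr($(e.inv_hom_id) x)

lemma hom_inj {A B : AddCommGrpCat.{w}} (e : A ≅ B) {x y : A} (h : e.hom x = e.hom y) : x = y := by
  rw [← hom_inv e x, h, hom_inv]

theorem augExact_of_ex (h : Ex F) : AugExact F := by
  apply quasiIso_of_isConeElt
  intro p q r s hpq hqr hrs u v hu huv
  have hd : ∀ (i j : ℤ) (x : ((HomologicalComplex.single AddCommGrpCat.{w} (up ℤ) 0).obj
    (F.obj WithInitial.star)).X i), ((HomologicalComplex.single AddCommGrpCat.{w} (up ℤ) 0).obj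
    (F.obj WithInitial.star)).d i j x = 0 := fun i j x => rfl
  have hu0 : u = 0 := by
    by_cases hr : r = 0
    · subst hr
      have hv : v = 0 := eq_zero_of_isZero (isZero_neg _ q (by lia)) v
      apply hom_inj (σ₀ F)
      rw [map_zero]
      apply h.inj
      rw [← θ_aug, huv, hv, map_zero, map_zero]
    · exact eq_zero_of_isZero (HomologicalComplex.isZero_single_obj_X (up ℤ) 0 _ r hr) u
  subst hu0
  rw [map_zero] at huv
  by_cases hq : q < 0
  · refine ⟨0, 0, ?_, ?_⟩
    · exact hd _ _ _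
    · rw [eq_zero_of_isZero (isZero_neg _ q hq) v, map_zero, map_zero, zero_add]
  · obtain ⟨n, hn⟩ := Int.eq_ofNat_of_zero_le (not_lt.1 hq)
    have hv : dd ((rF _).obj F) n ((θ ((rF _).obj F) n q hn.symm).hom v) = 0 := by
      rw [← θ_dd _ n q r hn.symm (by lia)]
      erw [← huv, map_zero]
    rcases n with _ | n
    · obtain rfl : q = 0 := by simpa using hn
      obtain ⟨y, hy⟩ := h.ex₀ _ hv
      refine ⟨(σ₀ F).inv y, 0, hd _ _ _, ?_⟩
      rw [map_zero, add_zero]
      apply hom_inj (θ ((rF _).obj F) 0 0 rfl)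
      rw [θ_aug, inv_hom, hy]
    · obtain ⟨y, hy⟩ := h.ex n _ hv
      refine ⟨0, -(θ ((rF _).obj F) n p (by lia)).inv y, hd _ _ _, ?_⟩
      rw [map_zero, map_neg]
      have : ((cf _).obj ((rF _).obj F)).d p q ((θ ((rF _).obj F) n p (by lia)).inv y) = v := by
        apply hom_inj (θ ((rF _).obj F) (n + 1) q hn.symm)
        rw [θ_dd _ n p q (by lia) hn.symm, inv_hom, hy]
      erw [this]
      simp

theorem ex_of_augExact (h : AugExact F) : Ex F := by
  have h' : QuasiIso ((aug _).app F) := h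
  have hc := isConeElt_of_quasiIso (f := (aug _).app F)
  have hd : ∀ (i j : ℤ) (x : ((HomologicalComplex.single AddCommGrpCat.{w} (up ℤ) 0).obj
    (F.obj WithInitial.star)).X i), ((HomologicalComplex.single AddCommGrpCat.{w} (up ℤ) 0).obj
    (F.obj WithInitial.star)).d i j x = 0 := fun i j x => rfl
  refine ⟨fun x hx => ?_, fun x hx => ?_, fun n x hx => ?_⟩
  · obtain ⟨y, -, hy, -⟩ := hc (-2) (-1) 0 1 (by lia) (by lia) (by lia) ((σ₀ F).inv x) 0 (hd _ _ _) (by
      apply hom_inj (θ ((rF _).obj F) 0 0 rfl)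
      rw [θ_aug, inv_hom, hx, map_zero]
      erw [map_zero])
    erw [hd] at hy
    rw [← inv_hom (σ₀ F) x, ← hy, map_zero]
  · obtain ⟨y, z, -, hz⟩ := hc (-1) 0 1 2 (by lia) (by lia) (by lia) 0 ((θ ((rF _).obj F) 0 0 rfl).inv x)
      (map_zero _) (by
      apply hom_inj (θ ((rF _).obj F) 1 1 rfl)
      erw [θ_dd ((rF _).obj F) 0 0 1 rfl rfl, inv_hom, hx, map_zero])
    have hz0 : z = 0 := eq_zero_of_isZero (isZero_neg _ (-1) (by lia)) z
    rw [hz0, map_zero, add_zero] at hz
    refine ⟨(σ₀ F).hom y, ?_⟩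
    rw [← θ_aug]
    erw [hz]
    exact inv_hom _ _
  · obtain ⟨y, z, -, hz⟩ := hc n (n + 1 : ℕ) (n + 2 : ℕ) (n + 3 : ℕ) (by lia) (by lia) (by lia) 0
      ((θ ((rF _).obj F) (n + 1) (n + 1 : ℕ) rfl).inv x)
      (map_zero _) (by
      apply hom_inj (θ ((rF _).obj F) (n + 2) (n + 2 : ℕ) rfl)
      erw [θ_dd ((rF _).obj F) (n + 1) (n + 1 : ℕ) (n + 2 : ℕ) rfl rfl, inv_hom, hx, map_zero])
    have hy0 : y = 0 := eq_zero_of_isZero (HomologicalComplex.isZero_single_obj_X (up ℤ) 0 _ _ (by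
      intro h; lia)) y
    refine ⟨-(θ ((rF _).obj F) n n rfl).hom z, ?_⟩
    rw [map_neg, ← θ_dd ((rF _).obj F) n n (n + 1 : ℕ) rfl rfl]
    rw [hy0, map_zero] at hz
    have h1 : (θ ((rF _).obj F) (n + 1) (n + 1 : ℕ) rfl).inv x = -((cf _).obj ((rF _).obj F)).d n (n + 1 : ℕ) z :=
      eq_neg_of_add_eq_zero_left hz.symm
    rw [← map_neg]
    erw [← h1]
    exact inv_hom _ _

theorem augExact_iff_ex : AugExact F ↔ Ex F := ⟨ex_of_augExact, augExact_of_ex⟩

end

/-- An extra codegeneracy of a coaugmented cosimplicial object. -/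
structure XCo {V : Type u} [Category.{v} V] (F : Dp ⥤ V) where
  /-- the codegeneracy to the augmentation -/
  s' : F.obj (ob 0) ⟶ F.obj WithInitial.star
  /-- the codegeneracies -/
  s : ∀ n : ℕ, F.obj (ob (n + 1)) ⟶ F.obj (ob n)
  w' : F.map (init (ob 0)) ≫ s' = 𝟙 _
  w0' : F.map (WithInitial.incl.map (SimplexCategory.δ (1 : Fin 2))) ≫ s 0 = s' ≫ F.map (init (ob 0))
  w0 : ∀ n : ℕ, F.map (WithInitial.incl.map (SimplexCategory.δ (0 : Fin (n + 2)))) ≫ s n = 𝟙 _
  w : ∀ (n : ℕ) (i : Fin (n + 2)), F.map (WithInitial.incl.map (SimplexCategory.δ i.succ)) ≫ s (n + 1) =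
    s n ≫ F.map (WithInitial.incl.map (SimplexCategory.δ i))

/-- Extra codegeneracies are preserved by functors. -/
def XCo.map {V : Type*} [Category* V] {W : Type*} [Category* W] {F : Dp ⥤ V} (h : XCo F) (G : V ⥤ W) :
    XCo (F ⋙ G) where
  s' := G.map h.s'
  s n := G.map (h.s n)
  w' := by
    rw [Functor.comp_map, ← G.map_comp, h.w', G.map_id]; rfl
  w0' := by
    rw [Functor.comp_map, ← G.map_comp, h.w0', G.map_comp]; rfl
  w0 n := by
    rw [Functor.comp_map, ← G.map_comp, h.w0, G.map_id]; rfl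
  w n i := by
    rw [Functor.comp_map, ← G.map_comp, h.w, G.map_comp]; rfl

theorem XCo.ex {F : Dp ⥤ AddCommGrpCat.{w}} (h : XCo F) : Ex F where
  inj x hx := by
    have h1 := congr($(h.w') x)
    have h2 : h.s' (F.map (init (ob 0)) x) = x := h1
    rw [← h2, hx, map_zero]
  ex₀ x hx := by
    refine ⟨h.s' x, ?_⟩
    have h1 : h.s 0 (dd ((rF _).obj F) 0 x) = x - F.map (init (ob 0)) (h.s' x) := by
      have h2 : dd ((rF _).obj F) 0 ≫ h.s 0 = 𝟙 _ - h.s' ≫ F.map (init (ob 0)) := by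
        rw [dd, Fin.sum_univ_two, Preadditive.add_comp, Preadditive.zsmul_comp, Preadditive.zsmul_comp]
        erw [h.w0, h.w0']
        simp only [Fin.val_zero, pow_zero, one_smul, Fin.val_one, pow_one, neg_smul, sub_eq_add_neg]
        rfl
      exact congr($h2 x)
    rw [hx, map_zero] at h1
    exact (sub_eq_zero.1 h1.symm).symm
  ex n x hx := by
    refine ⟨h.s n x, ?_⟩
    have h1 : h.s (n + 1) (dd ((rF _).obj F) (n + 1) x) =
        x - (show F.obj (ob (n + 1)) from dd ((rF _).obj F) n (h.s n x)) := by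
      have h2 : dd ((rF _).obj F) (n + 1) ≫ h.s (n + 1) = 𝟙 _ - h.s n ≫ dd ((rF _).obj F) n := by
        rw [dd, Fin.sum_univ_succ, Preadditive.add_comp, Preadditive.zsmul_comp]
        erw [h.w0]
        rw [dd, Preadditive.comp_sum, Preadditive.sum_comp, sub_eq_add_neg, ← Finset.sum_neg_distrib]
        congr 1
        · simp only [Fin.val_zero, pow_zero, one_smul]
          rfl
        · refine Finset.sum_congr rfl fun i _ => ?_
          rw [Preadditive.zsmul_comp, Preadditive.comp_zsmul]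
          erw [h.w n i]
          rw [Fin.val_succ, pow_succ]
          simp
      exact congr($h2 x)
    rw [hx, map_zero] at h1
    exact (sub_eq_zero.1 h1.symm).symm

theorem XCo.augExact {F : Dp ⥤ AddCommGrpCat.{w}} (h : XCo F) : AugExact F := augExact_of_ex h.ex

end K781.Desc
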