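import Groth.Agent.FibDesc.K781.Defs3
import Groth.Agent.FibDesc.K31.Cech

/-!
# Descent of a presheaf along a diagram; restriction of a diagram to an open subset of the base
-/

set_option autoImplicit false
set_option backward.isDefEq.respectTransparency false
set_option backward.isDefEq.respectTransparency.types false

universe u

open CategoryTheory CategoryTheory.Limits ComplexShape Opposite TopologicalSpace

namespace K781.Row

open K781.Desc K781.God

variable {S : TopCat.{u}}

/-- Descent of the presheaf `P` along the diagram `τ`: `G(τ star) ⟶ Tot G(τ n)` is a quasi-isomorphism for the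
Godement complex `G` of `P`. -/
def DescP (P : (Over S)ᵒᵖ ⥤ AddCommGrpCat.{u}) (τ : Dpᵒᵖ ⥤ Over S) : Prop := IsDesc (rs τ.rightOp (G P))

/-- The open subset of `τ x` over an open subset of `τ star`. -/
abbrev ov (τ : Dpᵒᵖ ⥤ Over S) (U : Opens (τ.obj (op WithInitial.star)).left) (x : Dp) : Opens (τ.obj (op x)).left :=
  (Opens.map (τ.map (init x).op).left).obj U

lemma mem_ov (τ : Dpᵒᵖ ⥤ Over S) (U : Opens (τ.obj (op WithInitial.star)).left) {x y : Dp} (f : x ⟶ y)
    (t : (τ.obj (op y)).left) (ht : t ∈ ov τ U y) : (τ.map f.op).left t ∈ ov τ U x := by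
  change (τ.map (init x).op).left ((τ.map f.op).left t) ∈ U
  have h1 : τ.map f.op ≫ τ.map (init x).op = τ.map (init y).op := by
    rw [← τ.map_comp, ← op_comp, init_comp]
  have h2 : (τ.map (init x).op).left ((τ.map f.op).left t) = (τ.map (init y).op).left t :=
    congr_arg (fun k => k.left t) h1
  rw [h2]
  exact ht

/-- Restriction of a diagram to an open subset of the base. -/
@[simps]
def subD (τ : Dpᵒᵖ ⥤ Over S) (U : Opens (τ.obj (op WithInitial.star)).left) : Dpᵒᵖ ⥤ Over S where
  obj x := sub (τ.obj x) (ov τ U x.unop)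
  map {x y} f := subRes (τ.map f) (ov τ U x.unop) (ov τ U y.unop) (mem_ov τ U f.unop)
  map_id x := sub_hom_ext (by simp)
  map_comp f g := sub_hom_ext (by simp)

/-- The inclusion. -/
def subDι (τ : Dpᵒᵖ ⥤ Over S) (U : Opens (τ.obj (op WithInitial.star)).left) : subD τ U ⟶ τ where
  app x := subι (τ.obj x) (ov τ U x.unop)
  naturality x y f := subRes_ι (τ.map f) (ov τ U x.unop) (ov τ U y.unop) (mem_ov τ U f.unop)

end K781.Row
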