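import Groth.Agent.FibDesc.K781.Crit3
import Groth.Agent.FibDesc.K753.Cart
import Groth.Agent.FibDesc.K417.FF
import Mathlib.CategoryTheory.Abelian.GrothendieckAxioms.Sheaf
import Mathlib.CategoryTheory.Abelian.GrothendieckCategory.EnoughInjectives

/-!
# Criterion for cohomological descent of augmented simplicial spaces
-/

set_option autoImplicit false
set_option backward.isDefEq.respectTransparency false
set_option backward.isDefEq.respectTransparency.types false

universe v v' w u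

open CategoryTheory CategoryTheory.Limits ComplexShape Opposite TopologicalSpace FibDesc
  Pseudofunctor.CoGrothendieck

namespace K781.FF

variable {A : Type*} {B : Type*} [Category* A] [Category* B] [Abelian A] [Abelian B]
  {a : A ⥤ B} {b : B ⥤ A} (adj : a ⊣ b) [b.Additive]

/-- Invariance of the unit condition under isomorphisms. -/
theorem UnitOK.of_iso {L L' : A} (e : L ≅ L') (h : UnitOK adj L) : UnitOK adj L' := by
  intro I hI hI' φ hφ
  have h1 : QuasiIso ((HomologicalComplex.single B (up ℤ) 0).map (a.map e.hom) ≫ φ) := by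
    infer_instance
  have h2 := h I hI hI' _ h1
  have h3 : adjSingle adj L ((HomologicalComplex.single B (up ℤ) 0).map (a.map e.hom) ≫ φ) =
      (HomologicalComplex.single A (up ℤ) 0).map e.hom ≫ adjSingle adj L' φ := by
    apply HomologicalComplex.from_single_hom_ext
    rw [HomologicalComplex.comp_f, adjSingle, adjSingle, HomologicalComplex.mkHomFromSingle_f,
      HomologicalComplex.mkHomFromSingle_f, HomologicalComplex.comp_f, HomologicalComplex.single_map_f_self,
      HomologicalComplex.single_map_f_self]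
    simp only [Category.assoc, Iso.inv_hom_id_assoc]
    congr 1
    exact Adjunction.homEquiv_naturality_left _ _ _
  rw [h3] at h2
  exact (quasiIso_iff_comp_left _ _).1 h2

end K781.FF

namespace K781.Crit

open K781.Desc K781.God K781.Site Groth.Agent.PerfB.DQAdj K61.Fub K781.Row K781.FF K781.Cech

attribute [local instance] HasDerivedCategory.standard

instance (Z : Dpᵒᵖ ⥤ TopCat.{u}) : EnoughInjectives (ShA Z) := inferInstance
instance (Z : Dpᵒᵖ ⥤ TopCat.{u}) : EnoughInjectives (ShB Z) := inferInstance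

/-- Cohomological descent in terms of the unit condition. -/
theorem isCohDescentTop_iff (Z : Dpᵒᵖ ⥤ TopCat.{u}) :
    IsCohDescentTop Z ↔ ∀ L : ShA Z, UnitOK ((adjE Z).comp (adjI Z)) L := by
  have hff := K417.FF.ff_iff (FibDesc.adj (topAug Z) (topAugTop Z) AddCommGrpCat.{u})
  constructor
  · rintro ⟨_, _, _, _, _, _, h⟩
    exact hff.1 h
  · intro h
    exact ⟨inferInstance, inferInstance, inferInstance, inferInstance, inferInstance, inferInstance, hff.2 h⟩

/-- The unit condition for the sheaf attached to a cartesian presheaf. -/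
theorem unitOK_iff {S : TopCat.{u}} (τ : Dpᵒᵖ ⥤ Over S) {P : (Over S)ᵒᵖ ⥤ AddCommGrpCat.{u}} (hP : IsCart P)
    (B : Set (Opens ((Y τ).obj (op WithInitial.star)))) (hB : TopologicalSpace.Opens.IsBasis B) :
    UnitOK ((adjE (Y τ)).comp (adjI (Y τ))) ((er (Y τ)).obj (RR τ P)) ↔ ∀ U ∈ B, DescP P (subD τ U) := by
  have := isIso_counit_RR τ hP
  constructor
  · intro h
    obtain ⟨I, ψ, hψ, hI, hI0⟩ := CochainComplex.Plus.modelCategoryQuillen.exists_quasiIso_injective
      ((HomologicalComplex.single (ShB (Y τ)) (up ℤ) 0).obj ((el (Y τ) ⋙ il (Y τ)).obj ((er (Y τ)).obj (RR τ P)))) 0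
    have hI' : ∀ n < 0, IsZero (I.X n) := fun n hn => I.isZero_of_isStrictlyGE 0 n hn
    obtain ⟨g, hg, hg'⟩ := unit_reduction (adjE (Y τ)) (adjI (Y τ)) (rr τ P) hI hI' ψ
    rw [← quasiIso_er_gh_iff τ P hI hI' g B hB]
    exact hg'.1 (h I hI hI' ψ hψ)
  · intro h I hI hI' ψ hψ
    obtain ⟨g, hg, hg'⟩ := unit_reduction (adjE (Y τ)) (adjI (Y τ)) (rr τ P) hI hI' ψ
    exact hg'.2 ((quasiIso_er_gh_iff τ P hI hI' g B hB).2 h)

/-- First half of the criterion. -/
theorem crit₁ {S : TopCat.{u}} (τ : Dpᵒᵖ ⥤ Over S) (h : IsCohDescentTop (τ ⋙ Over.forget S))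
    (P : (Over S)ᵒᵖ ⥤ AddCommGrpCat.{u}) (hP : IsCart P) (U : Opens (τ.obj (op .star)).left) :
    DescP P (subD τ U) :=
  (unitOK_iff τ hP Set.univ (by
    rw [TopologicalSpace.Opens.isBasis_iff_nbhd]
    intro V x hx
    exact ⟨V, trivial, hx, le_rfl⟩)).1 ((isCohDescentTop_iff (Y τ)).1 h _) U trivial

lemma psh_congr {S : TopCat.{u}} (P : (Over S)ᵒᵖ ⥤ AddCommGrpCat.{u}) (a : S ⟶ S) (ha : a = 𝟙 S) :
    Nonempty (psh P (Over.mk a) ≅ psh P (Over.mk (𝟙 S))) := by
  subst ha
  exact ⟨Iso.refl _⟩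

/-- Every sheaf on the base is attached to a cartesian presheaf. -/
theorem exists_RR (Z : Dpᵒᵖ ⥤ TopCat.{u}) (L : ShA Z) :
    ∃ P : (Over (Z.obj (op .star)))ᵒᵖ ⥤ AddCommGrpCat.{u}, IsCart P ∧
      Nonempty ((er Z).obj (RR (lift Z (𝟙 _)) P) ≅ L) := by
  obtain ⟨P, hP, ⟨e⟩⟩ := K753.Cart.exists_cart (S := Z.obj (op .star)) L
  refine ⟨P, hP, ?_⟩
  obtain ⟨e'⟩ := psh_congr P (Z.map (init WithInitial.star).op ≫ 𝟙 _) (by
    have h1 : init WithInitial.star = 𝟙 (WithInitial.star : Dp) := WithInitial.starInitial.hom_ext _ _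
    rw [h1, op_id, Z.map_id, Category.comp_id])
  let e₁ := ((eps (topAug Z)).pushforwardContinuousSheafificationCompatibility AddCommGrpCat.{u}
    (topAugTop Z (bot _)) (totAug (topAug Z) (topAugTop Z))).app ((Φ (lift Z (𝟙 _))).op ⋙ P)
  exact ⟨e₁.symm ≪≫ (presheafToSheaf _ _).mapIso ((fibIso (lift Z (𝟙 _)) P (op .star)).symm ≪≫ e') ≪≫ e⟩

/-- Second half of the criterion. -/
theorem crit₂ (Z : Dpᵒᵖ ⥤ TopCat.{u}) (B : Set (Opens (Z.obj (op .star))))
    (hB : TopologicalSpace.Opens.IsBasis B)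
    (h : ∀ (P : (Over (Z.obj (op .star)))ᵒᵖ ⥤ AddCommGrpCat.{u}), IsCart P → ∀ U ∈ B,
      DescP P (subD (lift Z (𝟙 _)) U)) : IsCohDescentTop Z := by
  rw [isCohDescentTop_iff]
  intro L
  obtain ⟨P, hP, ⟨e⟩⟩ := exists_RR Z L
  exact UnitOK.of_iso _ e ((unitOK_iff (lift Z (𝟙 _)) hP B hB).2 (h P hP))

end K781.Crit
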