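import Groth.Agent.Htor.H253.TotalRow
import Groth.Agent.Htor.H253.AbQuasi
import Mathlib.AlgebraicTopology.SimplexCategory.Augmented.Basic
import Mathlib.AlgebraicTopology.AlternatingFaceMapComplex
import Mathlib.Algebra.Category.Grp.Colimits
import Mathlib.Algebra.Homology.Embedding.ExtendHomology
import Mathlib.CategoryTheory.Abelian.FunctorCategory

/-!
# Coaugmented cosimplicial complexes and the total complex

`A` is a complex of functors `WithInitial SimplexCategory ⥤ AddCommGrpCat` (a coaugmented cosimplicial complex).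
`IsDesc A`: the map from `A_{-1}` to the total complex of the double complex of alternating cofaces of the
cosimplicial part is a quasi-isomorphism.

* `isDesc_of_augExact`: if all rows are exact then `IsDesc`.
* `isDesc_iff_of_quasi`: invariance under levelwise quasi-isomorphisms.
* `isDesc_iff_of_res`: if `φ : A ⟶ B` is a quasi-isomorphism on the cosimplicial parts and the rows of `B` are
  exact then `IsDesc A` iff `A_{-1} ⟶ B_{-1}` is a quasi-isomorphism.
-/

set_option autoImplicit false
set_option backward.isDefEq.respectTransparency false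
set_option backward.isDefEq.respectTransparency.types false

universe u v w

open CategoryTheory CategoryTheory.Limits Opposite AlgebraicTopology HomologicalComplex₂ ComplexShape

namespace K781.Desc

open Groth.Agent.Htor.H253.TotalQuasi Groth.Agent.Htor.H253.TotalRow Groth.Agent.Htor.H253.TotalPrj
  Groth.Agent.Htor.H253.AbQuasi

/-- The augmented simplex category. -/
abbrev Dp : Type := WithInitial SimplexCategory

/-- The object `[n]` of the augmented simplex category. -/
abbrev ob (n : ℕ) : Dp := WithInitial.of (SimplexCategory.mk n)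

/-- The unique morphism from the initial object. -/
abbrev init (x : Dp) : (WithInitial.star : Dp) ⟶ x := WithInitial.starInitial.to x

lemma init_comp {x y : Dp} (f : x ⟶ y) : init x ≫ f = init y := WithInitial.starInitial.hom_ext _ _

variable (C : Type u) [Category.{v} C]

/-- Restriction to the cosimplicial part. -/
abbrev rF : (Dp ⥤ C) ⥤ (SimplexCategory ⥤ C) :=
  (Functor.whiskeringLeft _ _ C).obj WithInitial.incl

/-- Evaluation at the initial object. -/
abbrev eF : (Dp ⥤ C) ⥤ C := (evaluation Dp C).obj WithInitial.star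

variable [Abelian C]

/-- The alternating coface complex of a cosimplicial object. -/
noncomputable def alt : (SimplexCategory ⥤ C) ⥤ CochainComplex C ℕ := alternatingCofaceMapComplex C

instance : (alt C).Additive where
  map_add {X Y f g} := by
    ext n
    rfl

/-- The alternating coface complex of a cosimplicial object, in degrees `≥ 0` of a `ℤ`-graded complex. -/
noncomputable abbrev cf : (SimplexCategory ⥤ C) ⥤ CochainComplex C ℤ :=
  alt C ⋙ embeddingUpNat.extendFunctor C

variable {C}

/-- The terms of the alternating coface complex. -/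
noncomputable def θ (P : SimplexCategory ⥤ C) (n : ℕ) (j : ℤ) (h : (n : ℤ) = j) :
    ((cf C).obj P).X j ≅ P.obj (SimplexCategory.mk n) :=
  ((alt C).obj P).extendXIso embeddingUpNat h

lemma θ_naturality {P Q : SimplexCategory ⥤ C} (f : P ⟶ Q) (n : ℕ) (j : ℤ) (h : (n : ℤ) = j) :
    ((cf C).map f).f j ≫ (θ Q n j h).hom = (θ P n j h).hom ≫ f.app (SimplexCategory.mk n) := by
  have h1 : ((cf C).map f).f j =
      (θ P n j h).hom ≫ f.app (SimplexCategory.mk n) ≫ (θ Q n j h).inv :=
    HomologicalComplex.extendMap_f ((alt C).map f) embeddingUpNat h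
  rw [h1]
  simp

/-- The differential of the alternating coface complex. -/
noncomputable def dd (P : SimplexCategory ⥤ C) (n : ℕ) :
    P.obj (SimplexCategory.mk n) ⟶ P.obj (SimplexCategory.mk (n + 1)) :=
  ∑ i : Fin (n + 2), (-1 : ℤ) ^ (i : ℕ) • P.map (SimplexCategory.δ i)

lemma alt_d (P : SimplexCategory ⥤ C) (n : ℕ) : ((alt C).obj P).d n (n + 1) = dd P n :=
  CochainComplex.of_d (X := fun n => P.obj (SimplexCategory.mk n)) (d := fun n => dd P n) (j := n)

lemma θ_d (P : SimplexCategory ⥤ C) (n : ℕ) (j j' : ℤ) (h : (n : ℤ) = j) (h' : ((n + 1 : ℕ) : ℤ) = j') :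
    ((cf C).obj P).d j j' ≫ (θ P (n + 1) j' h').hom =
      (θ P n j h).hom ≫ dd P n := by
  have h2 : ((alt C).obj P).d n (n + 1) = dd P n := alt_d P n
  have h1 : ((cf C).obj P).d j j' =
      (θ P n j h).hom ≫ dd P n ≫ (θ P (n + 1) j' h').inv := by
    rw [← h2]
    exact HomologicalComplex.extend_d_eq _ embeddingUpNat h h'
  rw [h1, Category.assoc, Category.assoc, Iso.inv_hom_id, Category.comp_id]

lemma isZero_neg (P : SimplexCategory ⥤ C) (j : ℤ) (hj : j < 0) : IsZero (((cf C).obj P).X j) :=
  HomologicalComplex.isZero_extend_X _ embeddingUpNat j (fun i => by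
    change (i : ℤ) ≠ j
    lia)

lemma isZero_of_isZero (P : SimplexCategory ⥤ C) (hP : IsZero P) (j : ℤ) : IsZero (((cf C).obj P).X j) := by
  have h1 : IsZero ((cf C).obj P) := (cf C).map_isZero hP
  exact (HomologicalComplex.eval _ _ j).map_isZero h1

omit [Abelian C] in
lemma init_δ (F : Dp ⥤ C) (i : Fin 2) :
    F.map (init (ob 0)) ≫ ((rF C).obj F).map (SimplexCategory.δ i) = F.map (init (ob 1)) := by
  have := F.map_comp (init (ob 0)) (WithInitial.incl.map (SimplexCategory.δ i))
  rw [init_comp] at this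
  exact this.symm

lemma init_dd (F : Dp ⥤ C) :
    F.map (init (ob 0)) ≫ dd ((rF C).obj F) 0 = 0 := by
  rw [dd, Fin.sum_univ_two, Preadditive.comp_add, Preadditive.comp_zsmul,
    Preadditive.comp_zsmul, init_δ, init_δ]
  simp

/-- The coaugmentation, as a morphism of complexes. -/
noncomputable def augApp (F : Dp ⥤ C) :
    (HomologicalComplex.single C (up ℤ) 0).obj (F.obj WithInitial.star) ⟶ (cf C).obj ((rF C).obj F) :=
  HomologicalComplex.mkHomFromSingle (F.map (init (ob 0)) ≫ (θ ((rF C).obj F) 0 0 rfl).inv) (by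
    rintro k rfl
    rw [← cancel_mono (θ ((rF C).obj F) 1 (0 + 1) rfl).hom, Category.assoc, Category.assoc,
      θ_d _ 0 0 (0 + 1) rfl rfl, Iso.inv_hom_id_assoc, init_dd, zero_comp])

lemma augApp_f_zero (F : Dp ⥤ C) :
    (augApp F).f 0 ≫ (θ ((rF C).obj F) 0 0 rfl).hom =
      (HomologicalComplex.singleObjXSelf (up ℤ) 0 (F.obj WithInitial.star)).hom ≫ F.map (init (ob 0)) := by
  rw [augApp, HomologicalComplex.mkHomFromSingle_f, Category.assoc, Category.assoc, Iso.inv_hom_id,
    Category.comp_id]

variable (C) in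
/-- The coaugmentation as a natural transformation. -/
noncomputable def aug : eF C ⋙ HomologicalComplex.single C (up ℤ) 0 ⟶ rF C ⋙ cf C where
  app F := augApp F
  naturality F G f := by
    apply HomologicalComplex.from_single_hom_ext
    rw [HomologicalComplex.comp_f, HomologicalComplex.comp_f, ← cancel_mono (θ ((rF C).obj G) 0 0 rfl).hom,
      Category.assoc, Category.assoc]
    erw [augApp_f_zero, θ_naturality, reassoc_of% (augApp_f_zero F)]
    have h1 : ((eF C ⋙ HomologicalComplex.single C (up ℤ) 0).map f).f 0 =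
        (HomologicalComplex.singleObjXSelf (up ℤ) 0 (F.obj WithInitial.star)).hom ≫
          f.app WithInitial.star ≫
          (HomologicalComplex.singleObjXSelf (up ℤ) 0 (G.obj WithInitial.star)).inv :=
      HomologicalComplex.single_map_f_self (up ℤ) 0 (f.app WithInitial.star)
    have h2 : F.map (init (ob 0)) ≫ ((rF C).map f).app (SimplexCategory.mk 0) =
      f.app WithInitial.star ≫ G.map (init (ob 0)) := f.naturality _
    erw [h1, h2]
    simp

/-- The rows are exact: the coaugmented alternating coface complex is exact. -/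
def AugExact (F : Dp ⥤ C) : Prop := QuasiIso ((aug C).app F)

section Double

variable (A B : CochainComplex (Dp ⥤ C) ℤ)

/-- The row `A_{-1}`. -/
noncomputable abbrev E0 : HomologicalComplex₂ C (up ℤ) (up ℤ) :=
  ((eF C ⋙ HomologicalComplex.single C (up ℤ) 0).mapHomologicalComplex (up ℤ)).obj A

/-- The double complex of alternating cofaces of the cosimplicial part of `A`. -/
noncomputable abbrev DC : HomologicalComplex₂ C (up ℤ) (up ℤ) :=
  ((rF C ⋙ cf C).mapHomologicalComplex (up ℤ)).obj A

/-- The coaugmentation of double complexes. -/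
noncomputable abbrev α : E0 A ⟶ DC A := (NatTrans.mapHomologicalComplex (aug C) (up ℤ)).app A

variable {A B}

lemma α_naturality (φ : A ⟶ B) :
    ((eF C ⋙ HomologicalComplex.single C (up ℤ) 0).mapHomologicalComplex (up ℤ)).map φ ≫ α B =
      α A ≫ ((rF C ⋙ cf C).mapHomologicalComplex (up ℤ)).map φ :=
  (NatTrans.mapHomologicalComplex (aug C) (up ℤ)).naturality φ

/-- Bounded below complexes. -/
def BB {V : Type*} [Category* V] [HasZeroMorphisms V] (A : CochainComplex V ℤ) : Prop :=
  ∃ a : ℤ, ∀ i, i < a → IsZero (A.X i)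

lemma bdd_DC (hA : BB A) : Bdd (DC A) := by
  obtain ⟨a, ha⟩ := hA
  intro n
  refine ⟨a, n, fun i j hij hi => ?_⟩
  rcases hi with hi | hi
  · exact isZero_of_isZero _ ((rF C).map_isZero (ha i hi)) j
  · exact isZero_neg _ j (by lia)

lemma bdd_E0 (A : CochainComplex (Dp ⥤ C) ℤ) : Bdd (E0 A) := fun n =>
  ⟨n, n, fun i j hij hi => HomologicalComplex.isZero_single_obj_X (up ℤ) 0 _ j (by lia)⟩

variable [∀ D : HomologicalComplex₂ C (up ℤ) (up ℤ), D.HasTotal (up ℤ)]

/-- Descent: `A_{-1} ⟶ Tot` is a quasi-isomorphism. -/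
def IsDesc (A : CochainComplex (Dp ⥤ C) ℤ) : Prop := QuasiIso (total.map (α A) (up ℤ))

theorem isDesc_of_augExact (hA : BB A) (h : ∀ q, AugExact (A.X q)) : IsDesc A :=
  quasiIso_total_map (α A) (bdd_E0 A) (bdd_DC hA) h

/-- `φ` is a quasi-isomorphism at the object `x`. -/
def QAt (φ : A ⟶ B) (x : Dp) : Prop :=
  QuasiIso ((((evaluation Dp C).obj x).mapHomologicalComplex (up ℤ)).map φ)

omit [∀ D : HomologicalComplex₂ C (up ℤ) (up ℤ), D.HasTotal (up ℤ)] in
lemma quasiIso_of_natIso {V : Type*} [Category* V] [Preadditive V] {H H' : V ⥤ C} [H.Additive] [H'.Additive]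
    (e : H ≅ H') {A B : CochainComplex V ℤ} (φ : A ⟶ B) (h : QuasiIso ((H.mapHomologicalComplex (up ℤ)).map φ)) :
    QuasiIso ((H'.mapHomologicalComplex (up ℤ)).map φ) := by
  let E := NatIso.mapHomologicalComplex e (up ℤ)
  have h1 : (H'.mapHomologicalComplex (up ℤ)).map φ = E.inv.app A ≫ (H.mapHomologicalComplex (up ℤ)).map φ ≫
      E.hom.app B := by
    rw [E.hom.naturality, Iso.inv_hom_id_app_assoc]
  rw [h1]
  infer_instance

omit [∀ D : HomologicalComplex₂ C (up ℤ) (up ℤ), D.HasTotal (up ℤ)] in
lemma quasiIso_of_isZero {K L : CochainComplex C ℤ} (f : K ⟶ L) (hK : ∀ i, IsZero (K.X i))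
    (hL : ∀ i, IsZero (L.X i)) : QuasiIso f := by
  have h : ∀ i, IsIso (f.f i) := fun i => ⟨0, (hK i).eq_of_src _ _, (hL i).eq_of_src _ _⟩
  have := HomologicalComplex.Hom.isIso_of_components f
  infer_instance

lemma quasiIso_single_total (φ : A ⟶ B) (h : QAt φ WithInitial.star) :
    QuasiIso (total.map (((eF C ⋙ HomologicalComplex.single C (up ℤ) 0).mapHomologicalComplex
      (up ℤ)).map φ) (up ℤ)) := by
  refine quasiIso_total_map_of_flip _ (bdd_E0 A) (bdd_E0 B) fun j => ?_
  by_cases hj : j = 0
  · subst hj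
    exact quasiIso_of_natIso (H := (evaluation Dp C).obj WithInitial.star)
      (H' := eF C ⋙ HomologicalComplex.single C (up ℤ) 0 ⋙ HomologicalComplex.eval C (up ℤ) 0)
      ((Functor.rightUnitor (eF C)).symm ≪≫ Functor.isoWhiskerLeft (eF C)
        (HomologicalComplex.singleCompEvalIsoSelf C (up ℤ) 0).symm) φ h
  · exact quasiIso_of_isZero _ (fun i => HomologicalComplex.isZero_single_obj_X (up ℤ) 0 _ j hj)
      (fun i => HomologicalComplex.isZero_single_obj_X (up ℤ) 0 _ j hj)

lemma quasiIso_DC_total (hA : BB A) (hB : BB B) (φ : A ⟶ B) (h : ∀ n : ℕ, QAt φ (ob n)) :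
    QuasiIso (total.map (((rF C ⋙ cf C).mapHomologicalComplex (up ℤ)).map φ) (up ℤ)) := by
  refine quasiIso_total_map_of_flip _ (bdd_DC hA) (bdd_DC hB) fun j => ?_
  by_cases hj : 0 ≤ j
  · obtain ⟨n, hn⟩ := Int.eq_ofNat_of_zero_le hj
    exact quasiIso_of_natIso (H := (evaluation Dp C).obj (ob n))
      (H' := rF C ⋙ cf C ⋙ HomologicalComplex.eval C (up ℤ) j)
      (NatIso.ofComponents (fun P => (θ ((rF C).obj P) n j hn.symm).symm) (fun {P Q} f => by
        have h1 := θ_naturality ((rF C).map f) n j hn.symm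
        have h2 : (θ ((rF C).obj P) n j hn.symm).inv ≫ ((cf C).map ((rF C).map f)).f j =
            ((rF C).map f).app (SimplexCategory.mk n) ≫ (θ ((rF C).obj Q) n j hn.symm).inv := by
          rw [Iso.inv_comp_eq, ← Category.assoc, ← h1, Category.assoc, Iso.hom_inv_id, Category.comp_id]
        exact h2.symm)) φ (h n)
  · exact quasiIso_of_isZero _ (fun i => isZero_neg _ j (by lia)) (fun i => isZero_neg _ j (by lia))

lemma rowIso_naturality {K L : CochainComplex C ℤ} (ψ : K ⟶ L) :
    ψ ≫ (rowIso L).hom = (rowIso K).hom ≫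
      total.map (((HomologicalComplex.single C (up ℤ) 0).mapHomologicalComplex (up ℤ)).map ψ) (up ℤ) := by
  ext n
  change ψ.f n ≫ (rowX L n).hom ≫ (row L).ιTotal (up ℤ) n 0 n _ =
    ((rowX K n).hom ≫ (row K).ιTotal (up ℤ) n 0 n _) ≫ _
  rw [Category.assoc, ιTotal_map]
  have h2 : ((HomologicalComplex.single C (up ℤ) 0).map (ψ.f n)).f 0 =
      (rowX K n).inv ≫ ψ.f n ≫ (rowX L n).hom :=
    HomologicalComplex.single_map_f_self (up ℤ) 0 (ψ.f n)
  erw [h2]
  simp

lemma qAt_star_of_total (φ : A ⟶ B)
    (h : QuasiIso (total.map (((eF C ⋙ HomologicalComplex.single C (up ℤ) 0).mapHomologicalComplex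
      (up ℤ)).map φ) (up ℤ))) : QAt φ WithInitial.star := by
  have h1 := rowIso_naturality (((eF C).mapHomologicalComplex (up ℤ)).map φ)
  have h2 : QuasiIso (total.map (((HomologicalComplex.single C (up ℤ) 0).mapHomologicalComplex (up ℤ)).map
    (((eF C).mapHomologicalComplex (up ℤ)).map φ)) (up ℤ)) := h
  have h3 : QuasiIso ((((eF C).mapHomologicalComplex (up ℤ)).map φ) ≫
      (rowIso (((eF C).mapHomologicalComplex (up ℤ)).obj B)).hom) := by
    rw [h1]
    infer_instance
  exact (quasiIso_iff_comp_right _ _).1 h3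

theorem isDesc_iff_of_quasi (hA : BB A) (hB : BB B) (φ : A ⟶ B) (h : ∀ x, QAt φ x) :
    IsDesc A ↔ IsDesc B := by
  have h1 := quasiIso_single_total φ (h _)
  have h2 := quasiIso_DC_total hA hB φ (fun n => h _)
  have h3 : total.map (((eF C ⋙ HomologicalComplex.single C (up ℤ) 0).mapHomologicalComplex
      (up ℤ)).map φ) (up ℤ) ≫ total.map (α B) (up ℤ) =
      total.map (α A) (up ℤ) ≫ total.map (((rF C ⋙ cf C).mapHomologicalComplex (up ℤ)).map φ) (up ℤ) := by
    rw [← total.map_comp, ← total.map_comp, α_naturality]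
  constructor
  · intro (hA' : QuasiIso _)
    have h4 : QuasiIso (total.map (((eF C ⋙ HomologicalComplex.single C (up ℤ) 0).mapHomologicalComplex
      (up ℤ)).map φ) (up ℤ) ≫ total.map (α B) (up ℤ)) := by
      rw [h3]
      infer_instance
    exact (quasiIso_iff_comp_left _ _).1 h4
  · intro (hB' : QuasiIso _)
    have h4 : QuasiIso (total.map (α A) (up ℤ) ≫
        total.map (((rF C ⋙ cf C).mapHomologicalComplex (up ℤ)).map φ) (up ℤ)) := by
      rw [← h3]
      infer_instance
    exact (quasiIso_iff_comp_right _ _).1 h4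

theorem isDesc_iff_of_res (hA : BB A) (hB : BB B) (φ : A ⟶ B) (h : ∀ n : ℕ, QAt φ (ob n))
    (hB' : ∀ q, AugExact (B.X q)) : IsDesc A ↔ QAt φ WithInitial.star := by
  have h2 := quasiIso_DC_total hA hB φ (fun n => h _)
  have h5 : QuasiIso (total.map (α B) (up ℤ)) := isDesc_of_augExact hB hB'
  have h3 : total.map (((eF C ⋙ HomologicalComplex.single C (up ℤ) 0).mapHomologicalComplex
      (up ℤ)).map φ) (up ℤ) ≫ total.map (α B) (up ℤ) =
      total.map (α A) (up ℤ) ≫ total.map (((rF C ⋙ cf C).mapHomologicalComplex (up ℤ)).map φ) (up ℤ) := by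
    rw [← total.map_comp, ← total.map_comp, α_naturality]
  constructor
  · intro (hA' : QuasiIso _)
    have h4 : QuasiIso (total.map (((eF C ⋙ HomologicalComplex.single C (up ℤ) 0).mapHomologicalComplex
      (up ℤ)).map φ) (up ℤ) ≫ total.map (α B) (up ℤ)) := by
      rw [h3]
      infer_instance
    exact qAt_star_of_total φ ((quasiIso_iff_comp_right _ _).1 h4)
  · intro hq
    have h1 := quasiIso_single_total φ hq
    have h4 : QuasiIso (total.map (α A) (up ℤ) ≫
        total.map (((rF C ⋙ cf C).mapHomologicalComplex (up ℤ)).map φ) (up ℤ)) := by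
      rw [← h3]
      infer_instance
    exact (quasiIso_iff_comp_right _ _).1 h4

end Double

end K781.Desc
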