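import Groth.Agent.FibDesc.K781.Sub
import Groth.Prelude.Def_FibDesc
import Groth.Agent.FibSite.K780.Sheaf

/-!
# The total site of an augmented diagram of spaces over `S`, and its functor to spaces over `S`
-/

set_option autoImplicit false
set_option backward.isDefEq.respectTransparency false
set_option backward.isDefEq.respectTransparency.types false

universe v₀ u₀ u

open CategoryTheory CategoryTheory.Limits Opposite TopologicalSpace Pseudofunctor.CoGrothendieck

namespace K781.Site

open K781.God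

variable {D : Type u₀} [Category.{v₀} D] (Y : (WithInitial D)ᵒᵖ ⥤ TopCat.{u})

/-- Objects of the total category. -/
abbrev pt (i : (WithInitial D)ᵒᵖ) (U : Opens (Y.obj i)) : ∫ᶜ (FibDesc.topAug Y) := ⟨i, U⟩

/-- Morphisms of the total category. -/
abbrev pm {i j : (WithInitial D)ᵒᵖ} (f : i ⟶ j) (U : Opens (Y.obj i)) (V : Opens (Y.obj j))
    (h : U ≤ (Opens.map (Y.map f)).obj V) : pt Y i U ⟶ pt Y j V :=
  { base := f, fiber := (homOfLE h : U ⟶ (Opens.map (Y.map f)).obj V) }

lemma fib_le {i j : (WithInitial D)ᵒᵖ} {U : Opens (Y.obj i)} {V : Opens (Y.obj j)}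
    (f : pt Y i U ⟶ pt Y j V) : U ≤ (Opens.map (Y.map f.base)).obj V :=
  leOfHom f.fiber

lemma hom_ext' {i j : (WithInitial D)ᵒᵖ} {U : Opens (Y.obj i)} {V : Opens (Y.obj j)}
    (f g : pt Y i U ⟶ pt Y j V) (h : f.base = g.base) : f = g := by
  refine Hom.ext _ _ h ?_
  exact Subsingleton.elim (α := ((U : Opens (Y.obj i)) ⟶ (Opens.map (Y.map f.base)).obj V)) _ _

/-- Inclusions of open subsets in the total category. -/
noncomputable abbrev ix {i : (WithInitial D)ᵒᵖ} {U V : Opens (Y.obj i)} (h : U ≤ V) : pt Y i U ⟶ pt Y i V :=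
  (ι (FibDesc.topAug Y) i).map (homOfLE h : U ⟶ V)

/-- The structure map to the base. -/
abbrev stt (i : (WithInitial D)ᵒᵖ) : i ⟶ FibDesc.bot D := (WithInitial.starInitial.to i.unop).op

variable {S : TopCat.{u}} (X : (WithInitial D)ᵒᵖ ⥤ Over S)

/-- The functor `⟨i, U⟩ ↦ U` from the total category of a diagram of spaces over `S`. -/
def Φ : ∫ᶜ (FibDesc.topAug (X ⋙ Over.forget S)) ⥤ Over S where
  obj A := sub (X.obj A.base) A.fiber
  map {A B} f := subRes (X.map f.base) A.fiber B.fiber (fib_le (X ⋙ Over.forget S) f)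
  map_id A := sub_hom_ext (by
    rw [subRes_ι]
    change _ ≫ X.map (𝟙 _) = _
    simp)
  map_comp f g := sub_hom_ext (by
    rw [subRes_ι]
    change _ ≫ X.map (_ ≫ _) = _
    simp)

end K781.Site
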