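import Groth.Agent.FibDesc.K781.Res
import Groth.Agent.FibDesc.K781.Phi

/-!
# Sections and stalks of abelian sheaves; cartesian presheaves; Cech diagrams
-/

set_option autoImplicit false
set_option backward.isDefEq.respectTransparency false
set_option backward.isDefEq.respectTransparency.types false

universe v u

open CategoryTheory CategoryTheory.Limits ComplexShape Opposite TopologicalSpace K781.Desc

namespace K781.Flq

variable {X : TopCat.{u}}

/-- Sections over `U`. -/
noncomputable abbrev Γ (U : Opens X) : Sheaf (Opens.grothendieckTopology X) AddCommGrpCat.{u} ⥤ AddCommGrpCat.{u} :=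
  sheafToPresheaf _ _ ⋙ (evaluation _ _).obj (op U)

/-- Stalks. -/
noncomputable abbrev stk (x : X) : Sheaf (Opens.grothendieckTopology X) AddCommGrpCat.{u} ⥤ AddCommGrpCat.{u} :=
  sheafToPresheaf _ _ ⋙ TopCat.Presheaf.stalkFunctor AddCommGrpCat.{u} x

instance (x : X) : (TopCat.Presheaf.stalkFunctor AddCommGrpCat.{u} x).Additive where
  map_add {F G f g} := by
    refine TopCat.Presheaf.stalk_hom_ext _ fun U hU => ?_
    rw [TopCat.Presheaf.stalkFunctor_map_germ, Preadditive.comp_add, TopCat.Presheaf.stalkFunctor_map_germ,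
      TopCat.Presheaf.stalkFunctor_map_germ, NatTrans.app_add, Preadditive.add_comp]

end K781.Flq

namespace K781.God

variable {S : TopCat.{u}}

/-- All restriction maps on stalks are bijective. -/
def IsCart (P : (Over S)ᵒᵖ ⥤ AddCommGrpCat.{u}) : Prop :=
  ∀ (T T' : Over S) (h : T' ⟶ T) (t : T'.left), Function.Bijective (stRes P h t)

end K781.God

namespace K781.Cech

variable {C : Type u} [Category.{v} C]

/-- The `i`-th vertex. -/
abbrev vtx (n : ℕ) (i : Fin (n + 1)) : (ob 0 : Dp) ⟶ ob n :=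
  WithInitial.incl.map (SimplexCategory.const (SimplexCategory.mk 0) (SimplexCategory.mk n) i)

/-- `τ` is the Cech nerve of its augmentation. -/
structure IsCech (τ : Dpᵒᵖ ⥤ C) : Prop where
  hom_ext : ∀ (n : ℕ) (Z : C) (a b : Z ⟶ τ.obj (op (ob n))),
    (∀ i, a ≫ τ.map (vtx n i).op = b ≫ τ.map (vtx n i).op) → a = b
  exists_lift : ∀ (n : ℕ) (Z : C) (a : Fin (n + 1) → (Z ⟶ τ.obj (op (ob 0)))),
    (∀ i j, a i ≫ τ.map (init (ob 0)).op = a j ≫ τ.map (init (ob 0)).op) →
      ∃ b : Z ⟶ τ.obj (op (ob n)), ∀ i, b ≫ τ.map (vtx n i).op = a i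

/-- The augmented Cech nerve. -/
noncomputable abbrev nerve
    [∀ (n : ℕ) (f : Arrow C), HasWidePullback f.right (fun _ : Fin (n + 1) => f.left) fun _ => f.hom]
    {X T : C} (f : X ⟶ T) : Dpᵒᵖ ⥤ C :=
  AugmentedSimplexCategory.equivAugmentedSimplicialObject.inverse.obj (Arrow.mk f).augmentedCechNerve

/-- An augmented simplicial object as a diagram over `S`. -/
@[simps]
def lift {S : C} (Y : Dpᵒᵖ ⥤ C) (π : Y.obj (op .star) ⟶ S) : Dpᵒᵖ ⥤ Over S where
  obj i := Over.mk (Y.map (init i.unop).op ≫ π)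
  map {i j} f := Over.homMk (Y.map f) (by
    dsimp
    rw [← Category.assoc, ← Y.map_comp]
    congr 1)
  map_id i := by ext; exact Y.map_id i
  map_comp f g := by ext; exact Y.map_comp f g

lemma lift_forget {S : C} (Y : Dpᵒᵖ ⥤ C) (π : Y.obj (op .star) ⟶ S) : lift Y π ⋙ Over.forget S = Y := rfl

/-- The biaugmented bisimplicial object of products. -/
noncomputable def bi [HasBinaryProducts C] (τ τ' : Dpᵒᵖ ⥤ C) : (Dp × Dp)ᵒᵖ ⥤ C where
  obj x := τ.obj (op x.unop.1) ⨯ τ'.obj (op x.unop.2)
  map f := prod.map (τ.map f.unop.1.op) (τ'.map f.unop.2.op)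
  map_id x := by simp
  map_comp f g := by simp

end K781.Cech
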