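import Groth.Agent.FibDesc.K781.MM

/-!
# Cartesian presheaves: the sheaf on the total site is extended from the base
-/

set_option autoImplicit false
set_option backward.isDefEq.respectTransparency false
set_option backward.isDefEq.respectTransparency.types false

universe u

open CategoryTheory CategoryTheory.Limits ComplexShape Opposite TopologicalSpace FibDesc
  Pseudofunctor.CoGrothendieck

namespace K781.Crit

open K781.Desc K781.God K781.Site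

variable {S : TopCat.{u}} (τ : Dpᵒᵖ ⥤ Over S) (P : (Over S)ᵒᵖ ⥤ AddCommGrpCat.{u})

/-- The map to the sheafification. -/
noncomputable abbrev η : (Φ τ).op ⋙ P ⟶ (RR τ P).obj := toSheafify (KK τ) ((Φ τ).op ⋙ P)

/-- The sections of the sheaf attached to `P`. -/
noncomputable abbrev RS (i : Dpᵒᵖ) (U : Opens (τ.obj i).left) : AddCommGrpCat.{u} :=
  (RR τ P).obj.obj (op (pt (Y τ) i U))

/-- Values of the map to the sheafification. -/
noncomputable def et (i : Dpᵒᵖ) (U : Opens (τ.obj i).left) : P.obj (op (sub (τ.obj i) U)) ⟶ RS τ P i U :=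
  (η τ P).app (op (pt (Y τ) i U))

/-- Restriction. -/
noncomputable def rx {i : Dpᵒᵖ} {U V : Opens (τ.obj i).left} (h : U ≤ V) : RS τ P i V ⟶ RS τ P i U :=
  (RR τ P).obj.map (ix (Y τ) h).op

/-- Restriction along a transition map. -/
noncomputable def rm {i j : Dpᵒᵖ} (f : i ⟶ j) (U : Opens (τ.obj i).left) (V : Opens (τ.obj j).left)
    (h : ∀ x, x ∈ U → (τ.map f).left x ∈ V) : RS τ P j V ⟶ RS τ P i U :=
  (RR τ P).obj.map (pm (Y τ) f U V h).op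

lemma et_rm {i j : Dpᵒᵖ} (f : i ⟶ j) (U : Opens (τ.obj i).left) (V : Opens (τ.obj j).left)
    (h : ∀ x, x ∈ U → (τ.map f).left x ∈ V) (c : P.obj (op (sub (τ.obj j) V))) :
    rm τ P f U V h (et τ P j V c) = et τ P i U (P.map (subRes (τ.map f) U V h).op c) := by
  have h1 := (η τ P).naturality (pm (Y τ) f U V h).op
  exact (congr($h1 c)).symm

lemma et_rx {i : Dpᵒᵖ} {U V : Opens (τ.obj i).left} (h : U ≤ V) (c : P.obj (op (sub (τ.obj i) V))) :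
    rx τ P h (et τ P i V c) = et τ P i U (P.map (subMap (τ.obj i) h).op c) := by
  rw [← Φ_ix]
  have h1 := (η τ P).naturality (ix (Y τ) h).op
  exact (congr($h1 c)).symm

lemma et_surj {i : Dpᵒᵖ} {U : Opens (τ.obj i).left} (b : RS τ P i U)
    (t : (τ.obj i).left) (ht : t ∈ U) :
    ∃ (U' : Opens (τ.obj i).left) (h : U' ≤ U) (c : P.obj (op (sub (τ.obj i) U'))), t ∈ U' ∧
      et τ P i U' c = rx τ P h b := by
  have h1 := Presheaf.imageSieve_mem (KK τ) (η τ P) (U := op (pt (Y τ) i U)) b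
  have h2 := (mem_KK τ i U _).1 h1
  obtain ⟨V, hV, htV, c, hc⟩ := h2 t ht
  exact ⟨V, hV, c, htV, hc⟩

lemma et_inj {i : Dpᵒᵖ} {U : Opens (τ.obj i).left} (c c' : P.obj (op (sub (τ.obj i) U)))
    (h : et τ P i U c = et τ P i U c') (t : (τ.obj i).left) (ht : t ∈ U) :
    ∃ (U' : Opens (τ.obj i).left) (h : U' ≤ U), t ∈ U' ∧
      P.map (subMap (τ.obj i) h).op c = P.map (subMap (τ.obj i) h).op c' := by
  have h1 := Presheaf.equalizerSieve_mem (KK τ) (η τ P) (X := op (pt (Y τ) i U)) c c' h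
  have h2 := (mem_KK τ i U _).1 h1
  obtain ⟨V, hV, htV, e⟩ := h2 t ht
  refine ⟨V, hV, htV, ?_⟩
  change P.map ((Φ τ).map (ix (Y τ) hV)).op c = P.map ((Φ τ).map (ix (Y τ) hV)).op c' at e
  rw [Φ_ix] at e
  exact e

lemma rx_rm {i j : Dpᵒᵖ} (f : i ⟶ j) {U' U : Opens (τ.obj i).left} {V V' : Opens (τ.obj j).left}
    (h : ∀ x, x ∈ U → (τ.map f).left x ∈ V) (hU : U' ≤ U) (h' : ∀ x, x ∈ U' → (τ.map f).left x ∈ V')
    (hV : V' ≤ V) (a : RS τ P j V) :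
    rx τ P hU (rm τ P f U V h a) = rm τ P f U' V' h' (rx τ P hV a) := by
  have h1 : ix (Y τ) hU ≫ pm (Y τ) f U V h = pm (Y τ) f U' V' h' ≫ ix (Y τ) hV := by
    apply hom_ext'
    change 𝟙 _ ≫ f = f ≫ 𝟙 _
    rw [Category.id_comp, Category.comp_id]
  have h2 := congr_arg (fun k => (RR τ P).obj.map k.op) h1
  rw [op_comp, op_comp, Functor.map_comp, Functor.map_comp] at h2
  exact congr($h2 a)

lemma rx_rx {i : Dpᵒᵖ} {U V W : Opens (τ.obj i).left} (h : U ≤ V) (h' : V ≤ W) (a : RS τ P i W) :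
    rx τ P h (rx τ P h' a) = rx τ P (h.trans h') a := by
  have h1 : ix (Y τ) h ≫ ix (Y τ) h' = ix (Y τ) (h.trans h') := by
    rw [← Functor.map_comp]
    rfl
  have h2 := congr_arg (fun k => (RR τ P).obj.map k.op) h1
  rw [op_comp, Functor.map_comp] at h2
  exact congr($h2 a)

variable {P}

lemma cart_inj (hP : IsCart P) (i : Dpᵒᵖ) (t : (τ.obj i).left) (U : Opens (τ.obj i).left) (ht : t ∈ U)
    (V : Opens (τ.obj (bot _)).left) (hU : ∀ x, x ∈ U → (τ.map (stt i)).left x ∈ V)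
    (a : RS τ P (bot _) V) (ha : rm τ P (stt i) U V hU a = 0) :
    ∃ (V' : Opens (τ.obj (bot _)).left) (hV : V' ≤ V), (τ.map (stt i)).left t ∈ V' ∧ rx τ P hV a = 0 := by
  obtain ⟨V₁, hV₁, b, htV₁, hb⟩ := et_surj τ P a ((τ.map (stt i)).left t) (hU t ht)
  let U₁ : Opens (τ.obj i).left := U ⊓ (Opens.map (τ.map (stt i)).left).obj V₁
  have hU₁ : U₁ ≤ U := inf_le_left
  have hU₁' : ∀ x, x ∈ U₁ → (τ.map (stt i)).left x ∈ V₁ := fun x hx => hx.2
  have h1 : et τ P i U₁ (P.map (subRes (τ.map (stt i)) U₁ V₁ hU₁').op b) = et τ P i U₁ 0 := by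
    rw [map_zero, ← et_rm, hb, ← rx_rm τ P (stt i) hU hU₁ hU₁' hV₁, ha, map_zero]
  obtain ⟨U₂, hU₂, htU₂, e⟩ := et_inj τ P _ _ h1 t ⟨ht, htV₁⟩
  rw [map_zero, mm] at e
  have h2 : stRes P (τ.map (stt i)) t (gm P _ _ V₁ htV₁ b) = 0 := by
    rw [stRes_gm P (τ.map (stt i)) t V₁ htV₁ U₂ htU₂ (fun x hx => hU₁' x (hU₂ hx))]
    rw [show subRes (τ.map (stt i)) U₂ V₁ (fun x hx => hU₁' x (hU₂ hx)) = subMap (τ.obj i) hU₂ ≫
      subRes (τ.map (stt i)) U₁ V₁ hU₁' from sub_hom_ext (by simp), e, map_zero]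
  have h3 : gm P _ _ V₁ htV₁ b = 0 := (hP _ _ (τ.map (stt i)) t).1 (by rw [h2, map_zero])
  obtain ⟨V₂, htV₂, hV₂, e₂⟩ := gm_eq_zero P _ _ h3
  refine ⟨V₂, hV₂.trans hV₁, htV₂, ?_⟩
  rw [← rx_rx τ P hV₂ hV₁, ← hb, et_rx, e₂, map_zero]

lemma cart_surj (hP : IsCart P) (i : Dpᵒᵖ) (t : (τ.obj i).left) (U : Opens (τ.obj i).left) (ht : t ∈ U)
    (b : RS τ P i U) :
    ∃ (U' : Opens (τ.obj i).left) (V : Opens (τ.obj (bot _)).left) (hU' : U' ≤ U)
      (hV : ∀ x, x ∈ U' → (τ.map (stt i)).left x ∈ V) (a : RS τ P (bot _) V),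
      t ∈ U' ∧ rm τ P (stt i) U' V hV a = rx τ P hU' b := by
  obtain ⟨U₁, hU₁, c, htU₁, hc⟩ := et_surj τ P b t ht
  obtain ⟨x, hx⟩ := (hP _ _ (τ.map (stt i)) t).2 (gm P _ _ U₁ htU₁ c)
  obtain ⟨V, hV, a, rfl⟩ := exists_gm P x
  let U₂ : Opens (τ.obj i).left := U₁ ⊓ (Opens.map (τ.map (stt i)).left).obj V
  have hU₂ : U₂ ≤ U₁ := inf_le_left
  have hU₂' : ∀ x, x ∈ U₂ → (τ.map (stt i)).left x ∈ V := fun x hx => hx.2
  rw [stRes_gm P (τ.map (stt i)) t V hV U₂ ⟨htU₁, hV⟩ hU₂', ← gm_res P hU₂ ⟨htU₁, hV⟩] at hx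
  obtain ⟨U₃, htU₃, hU₃, hU₃', e⟩ := gm_eq P _ _ _ _ hx
  refine ⟨U₃, V, hU₃.trans (hU₂.trans hU₁), fun x hx => hU₂' x (hU₃ hx), et τ P _ V a, htU₃, ?_⟩
  rw [← rx_rx τ P (hU₃.trans hU₂) hU₁, ← hc, et_rx, et_rm]
  congr 1
  rw [mm, mm] at e
  have h5 : subRes (τ.map (stt i)) U₃ V (fun x hx => hU₂' x (hU₃ hx)) = subMap (τ.obj i) hU₃ ≫
      subRes (τ.map (stt i)) U₂ V hU₂' := sub_hom_ext (by simp)
  have h6 : subMap (τ.obj i) (hU₃.trans hU₂) = subMap (τ.obj i) hU₃' ≫ subMap (τ.obj i) hU₂ :=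
    sub_hom_ext (by simp)
  rw [h5, h6]
  exact e

theorem isIso_counit_RR (hP : IsCart P) :
    IsIso (((eps (topAug (Y τ))).sheafAdjunctionContinuous AddCommGrpCat.{u} (topAugTop (Y τ) (bot _))
      (KK τ)).counit.app (RR τ P)) :=
  isIso_counit (Y τ) (RR τ P) (fun i t U ht V hU a ha => cart_inj τ hP i t U ht V hU a ha)
    (fun i t U ht b => cart_surj τ hP i t U ht b)

end K781.Crit
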