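import Groth.Agent.FibDesc.K781.Defs2
import Groth.Agent.FibDesc.K437.SiteCond
import Mathlib.CategoryTheory.Sites.LocallyBijective

/-!
# The Godement resolution on the total site of an augmented simplicial space over `S`
-/

set_option autoImplicit false
set_option backward.isDefEq.respectTransparency false
set_option backward.isDefEq.respectTransparency.types false

universe u

open CategoryTheory CategoryTheory.Limits ComplexShape Opposite TopologicalSpace FibDesc
  Pseudofunctor.CoGrothendieck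

namespace K781.Crit

open K781.Desc K781.God K781.Site

variable {S : TopCat.{u}} (τ : Dpᵒᵖ ⥤ Over S)

/-- The underlying augmented simplicial space. -/
abbrev Y : Dpᵒᵖ ⥤ TopCat.{u} := τ ⋙ Over.forget S

/-- The total category. -/
abbrev TT : Type u := ∫ᶜ (topAug (Y τ))

/-- The total topology. -/
noncomputable abbrev KK : GrothendieckTopology (TT τ) := totAug (topAug (Y τ)) (topAugTop (Y τ))

lemma subRes_congr {T T' : Over S} {k k' : T' ⟶ T} (h : k = k') (U' : Opens T'.left) (U : Opens T.left)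
    (hU : ∀ x, x ∈ U' → k.left x ∈ U) (hU' : ∀ x, x ∈ U' → k'.left x ∈ U) :
    subRes k U' U hU = subRes k' U' U hU' := by
  subst h
  rfl

/-- The restriction of `Φ` to a fibre. -/
noncomputable def fibΦ (i : Dpᵒᵖ) : subF (τ.obj i) ≅ ι (topAug (Y τ)) i ⋙ Φ τ :=
  NatIso.ofComponents (fun U => Iso.refl _) (fun {U V} f => by
    rw [Iso.refl_hom, Iso.refl_hom, Category.id_comp]
    erw [Category.comp_id]
    exact subRes_congr (τ.map_id i).symm U V (fun x hx => f.le hx) (fun x hx => by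
      rw [τ.map_id i]
      exact f.le hx))

/-- The restriction of a presheaf to a fibre. -/
noncomputable def fibIso (P : (Over S)ᵒᵖ ⥤ AddCommGrpCat.{u}) (i : Dpᵒᵖ) :
    psh P (τ.obj i) ≅ (ι (topAug (Y τ)) i).op ⋙ (Φ τ).op ⋙ P :=
  Functor.isoWhiskerRight (NatIso.op (fibΦ τ i).symm) P

theorem isSheaf_Φ (P : (Over S)ᵒᵖ ⥤ AddCommGrpCat.{u}) (hP : ∀ T, TopCat.Presheaf.IsSheaf (psh P T)) :
    Presheaf.IsSheaf (KK τ) ((Φ τ).op ⋙ P) := by
  rw [K780.Sheaf.isSheaf_iff (isPreFibSite (Y τ))]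
  intro i
  exact (Presheaf.isSheaf_of_iso_iff (fibIso τ P i)).1 (hP (τ.obj i))

lemma isSheaf_of_isZero {C : Type*} [Category* C] (J : GrothendieckTopology C) {F : Cᵒᵖ ⥤ AddCommGrpCat.{u}}
    (hF : IsZero F) : Presheaf.IsSheaf J F := by
  have h1 : IsZero ((Functor.const Cᵒᵖ).obj (AddCommGrpCat.of PUnit.{u + 1})) := by
    rw [Functor.isZero_iff]
    intro X
    exact AddCommGrpCat.isZero_of_subsingleton (AddCommGrpCat.of PUnit.{u + 1})
  rw [Presheaf.isSheaf_of_iso_iff (hF.iso h1)]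
  exact Presheaf.isSheaf_of_isTerminal J (AddCommGrpCat.isZero_of_subsingleton _).isTerminal

/-- The terms of the Godement complex are sheaves on the small sites. -/
lemma isSheaf_G (P : (Over S)ᵒᵖ ⥤ AddCommGrpCat.{u}) (j : ℤ) (T : Over S) :
    TopCat.Presheaf.IsSheaf (psh ((G P).X j) T) := by
  by_cases hj : 0 ≤ j
  · obtain ⟨n, rfl⟩ := Int.eq_ofNat_of_zero_le hj
    exact TopCat.Presheaf.isSheaf_of_iso (Functor.isoWhiskerLeft (subF T).op (GX P n)).symm
      (isSheaf_god (Q P n) T)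
  · exact isSheaf_of_isZero _ (((Functor.whiskeringLeft _ _ AddCommGrpCat.{u}).obj (subF T).op).map_isZero
      (G_neg P j (by lia)))

lemma isFlasque_of_iso {X : TopCat.{u}} {F F' : TopCat.Presheaf AddCommGrpCat.{u} X} (e : F ≅ F')
    [TopCat.Presheaf.IsFlasque F] : TopCat.Presheaf.IsFlasque F' where
  epi {U V} i := by
    have h1 : F'.map i = e.inv.app U ≫ F.map i ≫ e.hom.app V := by
      rw [e.hom.naturality, ← Category.assoc]
      have : e.inv.app U ≫ e.hom.app U = 𝟙 _ := by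
        rw [← NatTrans.comp_app, Iso.inv_hom_id]
        rfl
      rw [this, Category.id_comp]
    have : Epi (F.map i) := TopCat.Presheaf.IsFlasque.epi i
    rw [h1]
    infer_instance

lemma isFlasque_of_isZero {X : TopCat.{u}} {F : TopCat.Presheaf AddCommGrpCat.{u} X} (hF : IsZero F) :
    TopCat.Presheaf.IsFlasque F where
  epi {U V} i := by
    have h1 : IsZero (F.obj V) := ((evaluation _ _).obj V).map_isZero hF
    exact ⟨fun f g _ => h1.eq_of_src _ _⟩

/-- The terms of the Godement complex are flasque on the small sites. -/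
instance isFlasque_G (P : (Over S)ᵒᵖ ⥤ AddCommGrpCat.{u}) (j : ℤ) (T : Over S) :
    TopCat.Presheaf.IsFlasque (psh ((G P).X j) T) := by
  by_cases hj : 0 ≤ j
  · obtain ⟨n, rfl⟩ := Int.eq_ofNat_of_zero_le hj
    exact isFlasque_of_iso (Functor.isoWhiskerLeft (subF T).op (GX P n)).symm
  · exact isFlasque_of_isZero (((Functor.whiskeringLeft _ _ AddCommGrpCat.{u}).obj (subF T).op).map_isZero
      (G_neg P j (by lia)))

/-- Restriction of presheaves along `Φ`. -/
noncomputable abbrev wΦ : ((Over S)ᵒᵖ ⥤ AddCommGrpCat.{u}) ⥤ ((TT τ)ᵒᵖ ⥤ AddCommGrpCat.{u}) :=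
  (Functor.whiskeringLeft _ _ _).obj (Φ τ).op

lemma Φ_ix (i : Dpᵒᵖ) {U V : Opens ((Y τ).obj i)} (h : U ≤ V) :
    (Φ τ).map (ix (Y τ) h) = subMap (τ.obj i) h := by
  have h5 := (fibΦ τ i).hom.naturality (homOfLE h)
  change subMap (τ.obj i) h ≫ 𝟙 _ = 𝟙 _ ≫ _ at h5
  rw [Category.comp_id, Category.id_comp] at h5
  exact h5.symm

lemma mem_KK (i : Dpᵒᵖ) (U : Opens ((Y τ).obj i)) (R : Sieve (pt (Y τ) i U)) :
    R ∈ KK τ (pt (Y τ) i U) ↔
      ∀ t ∈ U, ∃ (V : Opens ((Y τ).obj i)) (h : V ≤ U), t ∈ V ∧ R (ix (Y τ) h) := by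
  refine (K780.Cover.mem_totalTopology_iff (isPreFibSite (Y τ)) R).trans ?_
  constructor
  · intro h t ht
    obtain ⟨V, f, hf, hV⟩ := h t ht
    exact ⟨V, leOfHom f, hV, hf⟩
  · intro h t ht
    obtain ⟨V, hV, htV, hR⟩ := h t ht
    exact ⟨V, homOfLE hV, hR, htV⟩

lemma mem_equalizerSieve_toGod (P : (Over S)ᵒᵖ ⥤ AddCommGrpCat.{u}) (i : Dpᵒᵖ) (U : Opens ((Y τ).obj i))
    (x y : P.obj (op (sub (τ.obj i) U))) (h : ∀ t, gl P (sub (τ.obj i) U) t x = gl P (sub (τ.obj i) U) t y) :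
    Presheaf.equalizerSieve (F := (Φ τ).op ⋙ P) (X := op (pt (Y τ) i U)) x y ∈ KK τ (pt (Y τ) i U) := by
  rw [mem_KK]
  intro t ht
  have hz : gl P (sub (τ.obj i) U) (⟨t, ht⟩ : U) (x - y) = 0 := by
    rw [map_sub, h, sub_self]
  obtain ⟨W, hW, e⟩ := gl_eq_zero P _ hz
  have hle : im (τ.obj i) U W ≤ U := fun z hz => hz.1
  refine ⟨im (τ.obj i) U W, hle, ⟨ht, hW⟩, ?_⟩
  have e2 : P.map (subMap (τ.obj i) hle).op (x - y) = 0 := by
    have h3 : subMap (τ.obj i) hle = imTo (τ.obj i) U W ≫ subι (sub (τ.obj i) U) W :=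
      sub_hom_ext (by rw [subMap_ι, Category.assoc, imTo_ι_ι])
    rw [h3, ← mm, e, map_zero]
  rw [map_sub, sub_eq_zero] at e2
  change P.map ((Φ τ).map (ix (Y τ) hle)).op x = P.map ((Φ τ).map (ix (Y τ) hle)).op y
  rw [Φ_ix]
  exact e2

theorem isLocallyInjective_toGod (P : (Over S)ᵒᵖ ⥤ AddCommGrpCat.{u}) :
    Presheaf.IsLocallyInjective (KK τ) ((wΦ τ).map (toGod P)) where
  equalizerSieve_mem {X} x y h :=
    mem_equalizerSieve_toGod τ P X.unop.base X.unop.fiber x y (fun t => congr_fun h t)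

end K781.Crit
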