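import Groth.Agent.FibDesc.K781.StalkCrit
import Groth.Agent.FibDesc.K228.FibCech
import Groth.Agent.FibDesc.K760.PBC

/-!
# Cohomological descent for proper surjective maps
-/

set_option autoImplicit false
set_option backward.isDefEq.respectTransparency false
set_option backward.isDefEq.respectTransparency.types false

universe u

open CategoryTheory CategoryTheory.Limits ComplexShape Opposite TopologicalSpace FibDesc
  Pseudofunctor.CoGrothendieck

namespace K781.Crit

open K781.Desc K781.God K781.Site K61.Fub K781.Row K781.Cech K781.Fib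

section

variable {S : TopCat.{u}} (τ : Dpᵒᵖ ⥤ Over S) (P : (Over S)ᵒᵖ ⥤ AddCommGrpCat.{u}) (s : S)

/-- Restriction of germs along the fibres to the fibres. -/
noncomputable def φF : rs τ.rightOp (((gFun s).mapHomologicalComplex (up ℤ)).obj (G P)) ⟶
    rs τ.rightOp ((((Functor.whiskeringLeft _ _ AddCommGrpCat.{u}).obj (fibreF s).op).mapHomologicalComplex
      (up ℤ)).obj (G P)) :=
  (((Functor.whiskeringLeft _ _ AddCommGrpCat.{u}).obj τ.rightOp).mapHomologicalComplex (up ℤ)).map
    ((NatTrans.mapHomologicalComplex (toFibN s) (up ℤ)).app (G P))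

lemma qAt_φF (x : Dp) : QAt (φF τ P s) x ↔
    QuasiIso ((NatTrans.mapHomologicalComplex (toFib (τ.obj (op x)) s) (up ℤ)).app (G P)) := Iff.rfl

/-- Descent for the germs along the fibres, for the Cech diagram of a proper surjective map. -/
theorem isDesc_gFun_of_proper (h : IsCech τ) (h' : IsIso (τ.obj (op .star)).hom)
    (hp : IsProperMap (τ.obj (op (ob 0))).hom)
    (hs : ∀ x x' : (τ.obj (op (ob 0))).left, (τ.obj (op (ob 0))).hom x = (τ.obj (op (ob 0))).hom x' → x ≠ x' →
      ∃ U V : Set (τ.obj (op (ob 0))).left, IsOpen U ∧ IsOpen V ∧ x ∈ U ∧ x' ∈ V ∧ Disjoint U V)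
    (hsurj : Function.Surjective (τ.obj (op (ob 0))).hom) (hP : IsCart P) :
    IsDesc (rs τ.rightOp (((gFun s).mapHomologicalComplex (up ℤ)).obj (G P))) := by
  have hD : IsDesc (rs τ.rightOp ((((Functor.whiskeringLeft _ _ AddCommGrpCat.{u}).obj
      (fibreF s).op).mapHomologicalComplex (up ℤ)).obj (G P))) := descP_fibre τ h h' s (hsurj s) P
  refine (isDesc_iff_of_quasi (bb_rs _ (bb_map (gFun s) (bb_G P))) (bb_rs _ (bb_rs _ (bb_G P))) (φF τ P s)
    fun x => ?_).2 hD
  rw [qAt_φF]
  rcases x with n | _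
  · obtain ⟨h1, h2⟩ := isProper_of_isCech τ h h' hp hs n.len
    exact K760.PBC.quasiIso_toFib (τ.obj (op (ob n.len))) h1 h2 P hP s
  · have hi : Function.Injective (τ.obj (op .star)).hom := (TopCat.mono_iff_injective _).1 inferInstance
    refine K760.PBC.quasiIso_toFib (τ.obj (op .star)) ?_ (fun x x' e ne => (ne (hi e)).elim) P hP s
    exact (TopCat.homeoOfIso (asIso (τ.obj (op .star)).hom)).isProperMap

end

/-- Proper surjective separated maps are of cohomological descent. -/
theorem isCohDescentMap_of_proper {X S : TopCat.{u}} (f : X ⟶ S) (hf : IsProperMap f)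
    (hs : ∀ x x' : X, f x = f x' → x ≠ x' → ∃ U V : Set X, IsOpen U ∧ IsOpen V ∧ x ∈ U ∧ x' ∈ V ∧ Disjoint U V)
    (hsurj : Function.Surjective f) : FibDesc.IsCohDescentMap f := by
  refine crit₃ (cechAug f) fun P hP s => ?_
  have hstar : IsIso ((lift (nerve f) (𝟙 S)).obj (op .star)).hom := by
    change IsIso ((nerve f).map (init WithInitial.star).op ≫ 𝟙 S)
    have h1 : init WithInitial.star = 𝟙 (WithInitial.star : Dp) := WithInitial.starInitial.hom_ext _ _
    rw [h1, op_id, (nerve f).map_id]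
    exact inferInstanceAs (IsIso (𝟙 S ≫ 𝟙 S))
  have h0 : ∀ x : (nerve f).obj (op (ob 0)), ((lift (nerve f) (𝟙 S)).obj (op (ob 0))).hom x =
      f ((nerveZero f).hom x) := fun x => (congr_arg (fun k => k x) (nerveZero_hom f)).symm
  have h0' : (((lift (nerve f) (𝟙 S)).obj (op (ob 0))).hom : (nerve f).obj (op (ob 0)) → S) =
      f ∘ (TopCat.homeoOfIso (nerveZero f)) := funext h0
  refine isDesc_gFun_of_proper (lift (nerve f) (𝟙 S)) P s (isCech_lift _ (isCech_nerve f) _) hstar ?_ ?_ ?_ hP
  · rw [h0']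
    exact hf.comp (TopCat.homeoOfIso (nerveZero f)).isProperMap
  · intro x x' e ne
    have e' : f ((nerveZero f).hom x) = f ((nerveZero f).hom x') := (h0 x).symm.trans (e.trans (h0 x'))
    obtain ⟨U, V, hU, hV, hxU, hxV, hd⟩ := hs _ _ e' (fun h => ne ((TopCat.homeoOfIso (nerveZero f)).injective h))
    exact ⟨(nerveZero f).hom ⁻¹' U, (nerveZero f).hom ⁻¹' V, hU.preimage (nerveZero f).hom.hom.continuous,
      hV.preimage (nerveZero f).hom.hom.continuous, hxU, hxV, hd.preimage _⟩
  · rw [h0']
    exact hsurj.comp (TopCat.homeoOfIso (nerveZero f)).surjective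

end K781.Crit
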