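import Groth.Agent.FibDesc.K781.Defs2

/-!
# Fibres and germs along fibres
-/

set_option autoImplicit false
set_option backward.isDefEq.respectTransparency false
set_option backward.isDefEq.respectTransparency.types false

universe v u

open CategoryTheory CategoryTheory.Limits ComplexShape Opposite TopologicalSpace K781.Desc

namespace K781.Fib

open K781.God

variable {S : TopCat.{u}}

/-- The open subset of `T` over an open subset of `S`. -/
abbrev over (T : Over S) (U : Opens S) : Opens T.left := (Opens.map T.hom).obj U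

/-- The functor `U ↦ T|_U`. -/
@[simps]
def overF (T : Over S) : Opens S ⥤ Over S where
  obj U := sub T (over T U)
  map {U V} f := subMap T (show over T U ≤ over T V from fun _ hx => f.le hx)
  map_id U := sub_hom_ext (by simp)
  map_comp f g := sub_hom_ext (by simp)

/-- The fibre of `T` over `s`. -/
def fibre (T : Over S) (s : S) : Over S :=
  Over.mk (TopCat.ofHom ⟨((↑) : T.hom ⁻¹' {s} → T.left), continuous_subtype_val⟩ ≫ T.hom)

/-- The inclusion of the fibre. -/
def fibι (T : Over S) (s : S) : fibre T s ⟶ T :=
  Over.homMk (TopCat.ofHom ⟨((↑) : T.hom ⁻¹' {s} → T.left), continuous_subtype_val⟩) rfl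

lemma mem_over (T : Over S) (s : S) (U : Opens S) (hs : s ∈ U) (x : T.hom ⁻¹' {s}) : x.1 ∈ over T U := by
  have h : T.hom x.1 = s := x.2
  change T.hom x.1 ∈ U
  rw [h]
  exact hs

/-- The inclusion of the fibre in an open subset containing it. -/
def fibTo (T : Over S) (s : S) (U : Opens S) (hs : s ∈ U) : fibre T s ⟶ sub T (over T U) :=
  Over.homMk (TopCat.ofHom ⟨fun x => ⟨x.1, mem_over T s U hs x⟩,
    Continuous.subtype_mk continuous_subtype_val _⟩) rfl

@[reassoc (attr := simp)]
lemma fibTo_ι (T : Over S) (s : S) (U : Opens S) (hs : s ∈ U) :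
    fibTo T s U hs ≫ subι T (over T U) = fibι T s := rfl

/-- Germs along the fibre. -/
noncomputable abbrev germF (T : Over S) (s : S) : ((Over S)ᵒᵖ ⥤ AddCommGrpCat.{u}) ⥤ AddCommGrpCat.{u} :=
  (Functor.whiskeringLeft _ _ _).obj (overF T).op ⋙ TopCat.Presheaf.stalkFunctor AddCommGrpCat.{u} s

/-- Restriction of germs along the fibre to the fibre. -/
noncomputable def toFibApp (T : Over S) (s : S) (Q : (Over S)ᵒᵖ ⥤ AddCommGrpCat.{u}) :
    (germF T s).obj Q ⟶ Q.obj (op (fibre T s)) :=
  colimit.desc (((OpenNhds.inclusion s).op) ⋙ (overF T).op ⋙ Q)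
    { pt := Q.obj (op (fibre T s))
      ι :=
        { app := fun U => Q.map (fibTo T s U.unop.1 U.unop.2).op
          naturality := fun U V f => by
            change Q.map _ ≫ Q.map (fibTo T s V.unop.1 V.unop.2).op = Q.map _ ≫ 𝟙 _
            rw [Category.comp_id, ← Q.map_comp]
            congr 1 } }

lemma germ_toFibApp (T : Over S) (s : S) (Q : (Over S)ᵒᵖ ⥤ AddCommGrpCat.{u}) (U : Opens S) (hs : s ∈ U) :
    TopCat.Presheaf.germ ((overF T).op ⋙ Q) U s hs ≫ toFibApp T s Q = Q.map (fibTo T s U hs).op :=
  colimit.ι_desc (F := ((OpenNhds.inclusion s).op) ⋙ (overF T).op ⋙ Q) _ (op ⟨U, hs⟩)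

/-- Restriction of germs along the fibre to the fibre, as a natural transformation. -/
noncomputable def toFib (T : Over S) (s : S) :
    germF T s ⟶ (evaluation _ AddCommGrpCat.{u}).obj (op (fibre T s)) where
  app Q := toFibApp T s Q
  naturality Q Q' f := by
    refine TopCat.Presheaf.stalk_hom_ext _ fun U hU => ?_
    rw [← Category.assoc, ← Category.assoc]
    erw [TopCat.Presheaf.stalkFunctor_map_germ]
    rw [Category.assoc]
    erw [germ_toFibApp]
    erw [germ_toFibApp]
    exact (f.naturality _).symm

/-- Restriction to the fibre, on morphisms. -/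
def fibRes {T T' : Over S} (h : T' ⟶ T) (s : S) : fibre T' s ⟶ fibre T s :=
  Over.homMk (TopCat.ofHom ⟨fun x => ⟨h.left x.1,
      Eq.trans (show T.hom (h.left x.1) = T'.hom x.1 from congr_arg (fun k => k x.1) (Over.w h)) x.2⟩,
    Continuous.subtype_mk (h.left.hom.continuous.comp continuous_subtype_val) _⟩) (by
      ext x
      exact congr_arg (fun k => k x.1) (Over.w h))

instance (T : Over S) (s : S) : Mono (fibι T s) where
  right_cancellation f g h := by
    apply Over.OverMorphism.ext
    ext x
    have h1 := congr_arg (fun k => k.left x) h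
    exact Subtype.ext h1

@[reassoc (attr := simp)]
lemma fibRes_ι {T T' : Over S} (h : T' ⟶ T) (s : S) : fibRes h s ≫ fibι T s = fibι T' s ≫ h := rfl

/-- The fibre functor. -/
@[simps]
def fibreF (s : S) : Over S ⥤ Over S where
  obj T := fibre T s
  map h := fibRes h s
  map_id T := (cancel_mono (fibι T s)).1 (by simp)
  map_comp f g := (cancel_mono (fibι _ s)).1 (by simp)

lemma mem_over_of {T T' : Over S} (h : T' ⟶ T) (U : Opens S) (x : T'.left) (hx : x ∈ over T' U) :
    h.left x ∈ over T U := by
  change T.hom (h.left x) ∈ U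
  have h1 : T.hom (h.left x) = T'.hom x := congr_arg (fun k => k x) (Over.w h)
  rw [h1]
  exact hx

/-- Functoriality of `overF`. -/
def overMap {T T' : Over S} (h : T' ⟶ T) : overF T' ⟶ overF T where
  app U := subRes h (over T' U) (over T U) (mem_over_of h U)
  naturality U V f := sub_hom_ext (by simp)

/-- Germs along the fibres, as a presheaf. -/
noncomputable def gObj (s : S) (Q : (Over S)ᵒᵖ ⥤ AddCommGrpCat.{u}) : (Over S)ᵒᵖ ⥤ AddCommGrpCat.{u} where
  obj T := (germF T.unop s).obj Q
  map {T T'} h := (TopCat.Presheaf.stalkFunctor AddCommGrpCat.{u} s).map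
    (Functor.whiskerRight (NatTrans.op (overMap h.unop)) Q)
  map_id T := by
    have h1 : Functor.whiskerRight (NatTrans.op (overMap (𝟙 T.unop))) Q = 𝟙 _ := by
      apply NatTrans.ext
      funext U
      change Q.map (overMap (𝟙 T.unop)|>.app U.unop).op = 𝟙 _
      have h2 : (overMap (𝟙 T.unop)).app U.unop = 𝟙 _ := sub_hom_ext (by simp [overMap])
      rw [h2]
      exact Q.map_id _
    exact (congr_arg (TopCat.Presheaf.stalkFunctor AddCommGrpCat.{u} s).map h1).trans
      ((TopCat.Presheaf.stalkFunctor AddCommGrpCat.{u} s).map_id _)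
  map_comp {T T' T''} f g := by
    have h1 : Functor.whiskerRight (NatTrans.op (overMap (g.unop ≫ f.unop))) Q =
        Functor.whiskerRight (NatTrans.op (overMap f.unop)) Q ≫
          Functor.whiskerRight (NatTrans.op (overMap g.unop)) Q := by
      apply NatTrans.ext
      funext U
      change Q.map ((overMap (g.unop ≫ f.unop)).app U.unop).op =
        Q.map ((overMap f.unop).app U.unop).op ≫ Q.map ((overMap g.unop).app U.unop).op
      have h2 : (overMap (g.unop ≫ f.unop)).app U.unop = (overMap g.unop).app U.unop ≫
        (overMap f.unop).app U.unop := sub_hom_ext (by simp [overMap])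
      rw [h2, op_comp, Q.map_comp]
    exact (congr_arg (TopCat.Presheaf.stalkFunctor AddCommGrpCat.{u} s).map h1).trans
      ((TopCat.Presheaf.stalkFunctor AddCommGrpCat.{u} s).map_comp _ _)

/-- Germs along the fibres, as a functor. -/
noncomputable def gFun (s : S) : ((Over S)ᵒᵖ ⥤ AddCommGrpCat.{u}) ⥤ ((Over S)ᵒᵖ ⥤ AddCommGrpCat.{u}) where
  obj Q := gObj s Q
  map {Q Q'} f :=
    { app := fun T => (germF T.unop s).map f
      naturality := fun T T' h => by
        change (TopCat.Presheaf.stalkFunctor AddCommGrpCat.{u} s).map _ ≫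
          (TopCat.Presheaf.stalkFunctor AddCommGrpCat.{u} s).map _ =
          (TopCat.Presheaf.stalkFunctor AddCommGrpCat.{u} s).map _ ≫
            (TopCat.Presheaf.stalkFunctor AddCommGrpCat.{u} s).map _
        rw [← Functor.map_comp, ← Functor.map_comp]
        refine congr_arg (TopCat.Presheaf.stalkFunctor AddCommGrpCat.{u} s).map (NatTrans.ext ?_)
        funext U
        exact f.naturality _ }
  map_id Q := by
    ext T : 2
    exact (germF T.unop s).map_id Q
  map_comp f g := by
    ext T : 2
    exact (germF T.unop s).map_comp f g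

instance (T : Over S) (s : S) : (germF T s).Additive where
  map_add {Q Q' f g} := by
    refine TopCat.Presheaf.stalk_hom_ext _ fun U hU => ?_
    rw [Preadditive.comp_add]
    erw [TopCat.Presheaf.stalkFunctor_map_germ, TopCat.Presheaf.stalkFunctor_map_germ,
      TopCat.Presheaf.stalkFunctor_map_germ]
    exact Preadditive.add_comp _ _ _ _ _ _

instance (s : S) : (gFun s).Additive where
  map_add {Q Q' f g} := by
    ext T : 2
    exact (germF T.unop s).map_add

/-- Restriction of germs along the fibres to the fibres. -/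
noncomputable def toFibN (s : S) : gFun s ⟶ (Functor.whiskeringLeft _ _ AddCommGrpCat.{u}).obj (fibreF s).op where
  app Q :=
    { app := fun T => toFibApp T.unop s Q
      naturality := fun T T' h => by
        refine TopCat.Presheaf.stalk_hom_ext _ fun U hU => ?_
        rw [← Category.assoc, ← Category.assoc]
        erw [TopCat.Presheaf.stalkFunctor_map_germ]
        rw [Category.assoc]
        erw [germ_toFibApp]
        erw [germ_toFibApp]
        change Q.map ((overMap h.unop).app U).op ≫ Q.map (fibTo T'.unop s U hU).op =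
          Q.map (fibTo T.unop s U hU).op ≫ Q.map (fibRes h.unop s).op
        rw [← Q.map_comp, ← Q.map_comp]
        congr 1 }
  naturality Q Q' f := by
    ext T : 2
    exact (toFib T.unop s).naturality f

end K781.Fib
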