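import Groth.Agent.FibDesc.K781.Defs
import Groth.Agent.Cohder.RDAcyc

/-!
# Complexes obtained by splicing short exact sequences
-/

set_option autoImplicit false
set_option backward.isDefEq.respectTransparency false
set_option backward.isDefEq.respectTransparency.types false

universe v₁ v₂ u₁ u₂

open CategoryTheory CategoryTheory.Limits ComplexShape Opposite

namespace K781.Spl

variable {A : Type u₁} [Category.{v₁} A] [Abelian A] {B : Type u₂} [Category.{v₂} B] [Abelian B]

/-- `K` is spliced from sequences `q n ⟶ K.X n ⟶ q (n + 1)`. -/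
structure Data (K : CochainComplex A ℤ) where
  /-- the kernels -/
  q : ℕ → A
  /-- the inclusions -/
  i : ∀ n : ℕ, q n ⟶ K.X n
  /-- the projections -/
  p : ∀ n : ℕ, K.X n ⟶ q (n + 1)
  w : ∀ n, i n ≫ p n = 0
  d : ∀ n : ℕ, K.d n ((n + 1 : ℕ) : ℤ) = p n ≫ i (n + 1)
  neg : ∀ j : ℤ, j < 0 → IsZero (K.X j)

namespace Data

/-- Transport by a functor. -/
@[simps]
def map {K : CochainComplex A ℤ} (h : Data K) (F : A ⥤ B) [F.Additive] :
    Data ((F.mapHomologicalComplex (up ℤ)).obj K) where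
  q n := F.obj (h.q n)
  i n := F.map (h.i n)
  p n := F.map (h.p n)
  w n := by rw [← F.map_comp, h.w, F.map_zero]
  d n := by
    rw [← F.map_comp, ← h.d]
    rfl
  neg j hj := F.map_isZero (h.neg j hj)

/-- Transport by an isomorphism of complexes. -/
@[simps]
def ofIso {K L : CochainComplex A ℤ} (h : Data K) (e : K ≅ L) : Data L where
  q := h.q
  i n := h.i n ≫ e.hom.f n
  p n := e.inv.f n ≫ h.p n
  w n := by
    have h1 : e.hom.f (n : ℤ) ≫ e.inv.f n = 𝟙 _ := by
      rw [← HomologicalComplex.comp_f, e.hom_inv_id]; rfl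
    rw [Category.assoc, reassoc_of% h1, h.w]
  d n := by
    have h1 : e.inv.f (n : ℤ) ≫ e.hom.f n = 𝟙 _ := by
      rw [← HomologicalComplex.comp_f, e.inv_hom_id]; rfl
    rw [Category.assoc, ← Category.assoc (h.p n), ← h.d, ← e.hom.comm, reassoc_of% h1]
  neg j hj := (h.neg j hj).of_iso ((HomologicalComplex.eval _ _ j).mapIso e).symm

variable {K : CochainComplex A ℤ} (h : Data K)

/-- The augmentation. -/
noncomputable def aug : (HomologicalComplex.single A (up ℤ) 0).obj (h.q 0) ⟶ K :=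
  HomologicalComplex.mkHomFromSingle (h.i 0) (by
    rintro k rfl
    have h1 : K.d 0 (0 + 1) = h.p 0 ≫ h.i 1 := h.d 0
    rw [h1, ← Category.assoc]
    erw [h.w 0]
    rw [zero_comp])

lemma aug_f_zero : h.aug.f 0 = (HomologicalComplex.singleObjXSelf (up ℤ) 0 (h.q 0)).hom ≫ h.i 0 :=
  HomologicalComplex.mkHomFromSingle_f _ _

theorem quasiIso_aug (hh : ∀ n, (ShortComplex.mk (h.i n) (h.p n) (h.w n)).ShortExact) : QuasiIso h.aug := by
  rw [quasiIso_iff]
  intro j
  obtain hj | hj | hj := lt_trichotomy j 0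
  · have h0 : K.ExactAt j := ShortComplex.exact_of_isZero_X₂ _ (h.neg j hj)
    rw [quasiIsoAt_iff_exactAt' _ _ h0]
    exact HomologicalComplex.exactAt_single_obj _ _ _ _ (by lia)
  · subst hj
    rw [quasiIsoAt_iff' _ (-1) 0 1 (by simp) (by simp), ShortComplex.quasiIso_iff_of_zeros _
      ((HomologicalComplex.isZero_single_obj_X (up ℤ) 0 (h.q 0) (-1) (by simp)).eq_of_src _ _)
      ((HomologicalComplex.isZero_single_obj_X (up ℤ) 0 (h.q 0) 1 (by simp)).eq_of_tgt _ _)
      ((h.neg (-1) (by simp)).eq_of_src _ _)]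
    have hm0 : Mono (h.i 0) := (hh 0).mono_f
    have hm1 : Mono (h.i 1) := (hh 1).mono_f
    constructor
    · have h1 : (ShortComplex.mk (h.aug.f 0) (K.d 0 1) (by
          rw [h.aug.comm 0 1]
          rw [(HomologicalComplex.isZero_single_obj_X (up ℤ) 0 (h.q 0) 1 (by simp)).eq_of_tgt
            (((HomologicalComplex.single A (up ℤ) 0).obj (h.q 0)).d 0 1) 0, zero_comp])).Exact :=
        Groth.Agent.Cohder.RDAcyc.exact_of_factor
          (HomologicalComplex.singleObjXSelf (up ℤ) 0 (h.q 0)).hom (h.i 0) (h.p 0) (h.i 1) (h.w 0)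
          (hh 0).exact inferInstance hm1 _ _ h.aug_f_zero.symm (h.d 0).symm _
      exact h1
    · change Mono (h.aug.f 0)
      rw [aug_f_zero]
      infer_instance
  · rw [quasiIsoAt_iff_exactAt _ _ (HomologicalComplex.exactAt_single_obj _ _ _ _ (by lia))]
    obtain ⟨n, rfl⟩ : ∃ n : ℕ, j = ((n + 1 : ℕ) : ℤ) := ⟨(j - 1).toNat, by lia⟩
    rw [K.exactAt_iff' (n : ℤ) ((n + 1 : ℕ) : ℤ) ((n + 2 : ℕ) : ℤ) (by simp) (by simp; lia)]
    exact Groth.Agent.Cohder.RDAcyc.exact_of_factor (h.p n) (h.i (n + 1)) (h.p (n + 1)) (h.i (n + 2)) (h.w (n + 1))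
      (hh (n + 1)).exact (hh n).epi_g (hh (n + 2)).mono_f _ _ (h.d n).symm (h.d (n + 1)).symm _

end Data

end K781.Spl
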