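import Groth.Agent.FibDesc.K781.God
import Groth.Agent.FibDesc.K781.Splice
import Mathlib.Algebra.Homology.Embedding.CochainComplex

/-!
# The Godement resolution of a presheaf on the category of spaces over `S`
-/

set_option autoImplicit false
set_option backward.isDefEq.respectTransparency false
set_option backward.isDefEq.respectTransparency.types false

universe u

open CategoryTheory CategoryTheory.Limits Opposite TopologicalSpace ComplexShape

namespace K781.God

variable {S : TopCat.{u}} (P : (Over S)ᵒᵖ ⥤ AddCommGrpCat.{u})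

/-- The cosyzygies. -/
noncomputable def Q : ℕ → ((Over S)ᵒᵖ ⥤ AddCommGrpCat.{u})
  | 0 => P
  | n + 1 => cokernel (toGod (Q n))

/-- The projection. -/
noncomputable def Qπ (n : ℕ) : God (Q P n) ⟶ Q P (n + 1) := cokernel.π (toGod (Q P n))

lemma toGod_Qπ (n : ℕ) : toGod (Q P n) ≫ Qπ P n = 0 := cokernel.condition _

lemma exact_Q (n : ℕ) : (ShortComplex.mk (toGod (Q P n)) (Qπ P n) (toGod_Qπ P n)).Exact :=
  ShortComplex.exact_cokernel _

instance epi_Qπ (n : ℕ) : Epi (Qπ P n) := inferInstanceAs (Epi (cokernel.π (toGod (Q P n))))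

/-- The Godement complex. -/
noncomputable def GN : CochainComplex ((Over S)ᵒᵖ ⥤ AddCommGrpCat.{u}) ℕ :=
  CochainComplex.of (fun n => God (Q P n)) (fun n => Qπ P n ≫ toGod (Q P (n + 1))) (fun n => by
    rw [Category.assoc, ← Category.assoc (toGod (Q P (n + 1))), toGod_Qπ, zero_comp, comp_zero])

lemma GN_d (n : ℕ) : (GN P).d n (n + 1) = Qπ P n ≫ toGod (Q P (n + 1)) :=
  CochainComplex.of_d (X := fun n => God (Q P n)) (d := fun n => Qπ P n ≫ toGod (Q P (n + 1))) (j := n)

/-- The Godement complex, in degrees `≥ 0` of a complex indexed by `ℤ`. -/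
noncomputable def G : CochainComplex ((Over S)ᵒᵖ ⥤ AddCommGrpCat.{u}) ℤ :=
  (GN P).extend embeddingUpNat

/-- The terms of the Godement complex. -/
noncomputable def GX (n : ℕ) : (G P).X n ≅ God (Q P n) :=
  (GN P).extendXIso embeddingUpNat (i := n) rfl

lemma G_d (n : ℕ) : (G P).d n ((n + 1 : ℕ) : ℤ) =
    (GX P n).hom ≫ (Qπ P n ≫ toGod (Q P (n + 1))) ≫ (GX P (n + 1)).inv := by
  rw [← GN_d]
  exact HomologicalComplex.extend_d_eq _ embeddingUpNat (i := n) (j := n + 1) rfl rfl

lemma G_neg (j : ℤ) (hj : j < 0) : IsZero ((G P).X j) :=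
  HomologicalComplex.isZero_extend_X _ embeddingUpNat j (fun i => by
    change (i : ℤ) ≠ j
    lia)

/-- The Godement complex is spliced. -/
@[simps]
noncomputable def GData : K781.Spl.Data (G P) where
  q := Q P
  i n := toGod (Q P n) ≫ (GX P n).inv
  p n := (GX P n).hom ≫ Qπ P n
  w n := by rw [Category.assoc, Iso.inv_hom_id_assoc, toGod_Qπ]
  d n := by rw [G_d]; simp only [Category.assoc]
  neg := G_neg P

lemma bb_G : K781.Desc.BB (G P) := ⟨0, fun j hj => G_neg P j hj⟩

end K781.God
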