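import Groth.Agent.FibDesc.K781.Extra
import Mathlib.CategoryTheory.Preadditive.Injective.Basic
import Mathlib.CategoryTheory.Limits.FunctorCategory.EpiMono

/-!
# Injective presheaves along an augmented simplicial object

`w : ι → T` a family of test objects, `σ : Dp ⥤ Tᵒᵖ` an augmented simplicial object of `T` such that the
augmented simplicial sets `n ↦ (w i ⟶ σ n)` have an extra degeneracy, `I` an injective presheaf of abelian
groups whose sections are detected on the `w i`. Then `σ ⋙ I` has exact coaugmented alternating complex.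
-/

set_option autoImplicit false
set_option backward.isDefEq.respectTransparency false
set_option backward.isDefEq.respectTransparency.types false

universe u v w

open CategoryTheory CategoryTheory.Limits Opposite

namespace K781.Desc

theorem Ex.retract {F G : Dp ⥤ AddCommGrpCat.{w}} (hG : Ex G) (i : F ⟶ G) (r : G ⟶ F) (h : i ≫ r = 𝟙 F) :
    Ex F := by
  have hir : ∀ (x : Dp) (a : F.obj x), r.app x (i.app x a) = a := fun x a => by
    have h1 := NatTrans.congr_app h x
    exact congr($h1 a)
  have hi : ∀ (n : ℕ) (a : F.obj (ob n)), i.app (ob (n + 1)) (dd ((rF _).obj F) n a) =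
      dd ((rF _).obj G) n (i.app (ob n) a) := by
    intro n a
    have h1 : dd ((rF _).obj F) n ≫ i.app (ob (n + 1)) = i.app (ob n) ≫ dd ((rF _).obj G) n := by
      rw [dd, dd, Preadditive.sum_comp, Preadditive.comp_sum]
      refine Finset.sum_congr rfl fun j _ => ?_
      rw [Preadditive.zsmul_comp, Preadditive.comp_zsmul]
      congr 1
      exact i.naturality _
    exact congr($h1 a)
  have hr : ∀ (n : ℕ) (a : G.obj (ob n)), r.app (ob (n + 1)) (dd ((rF _).obj G) n a) =
      dd ((rF _).obj F) n (r.app (ob n) a) := by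
    intro n a
    have h1 : dd ((rF _).obj G) n ≫ r.app (ob (n + 1)) = r.app (ob n) ≫ dd ((rF _).obj F) n := by
      rw [dd, dd, Preadditive.sum_comp, Preadditive.comp_sum]
      refine Finset.sum_congr rfl fun j _ => ?_
      rw [Preadditive.zsmul_comp, Preadditive.comp_zsmul]
      congr 1
      exact r.naturality _
    exact congr($h1 a)
  refine ⟨fun x hx => ?_, fun x hx => ?_, fun n x hx => ?_⟩
  · rw [← hir _ x]
    have h1 : G.map (init (ob 0)) (i.app _ x) = 0 := by
      have h2 : i.app _ ≫ G.map (init (ob 0)) = F.map (init (ob 0)) ≫ i.app _ := (i.naturality _).symm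
      have h3 := congr($h2 x)
      rw [ConcreteCategory.comp_apply, ConcreteCategory.comp_apply, hx, map_zero] at h3
      exact h3
    rw [hG.inj _ h1, map_zero]
  · obtain ⟨y, hy⟩ := hG.ex₀ (i.app _ x) (by rw [← hi, hx, map_zero])
    refine ⟨r.app _ y, ?_⟩
    have h2 : r.app _ ≫ F.map (init (ob 0)) = G.map (init (ob 0)) ≫ r.app _ := (r.naturality _).symm
    have h3 := congr($h2 y)
    rw [ConcreteCategory.comp_apply, ConcreteCategory.comp_apply, hy, hir] at h3
    exact h3
  · obtain ⟨y, hy⟩ := hG.ex n (i.app _ x) (by rw [← hi, hx, map_zero])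
    refine ⟨r.app _ y, ?_⟩
    rw [← hr, hy, hir]

/-- Products of functors to abelian groups. -/
def piF {V : Type*} [Category* V] {ι : Type w} (H : ι → V ⥤ AddCommGrpCat.{w}) : V ⥤ AddCommGrpCat.{w} where
  obj x := AddCommGrpCat.of (∀ i, (H i).obj x)
  map f := AddCommGrpCat.ofHom (AddMonoidHom.mk' (fun a i => (H i).map f (a i)) (fun a b => by
    funext i
    exact map_add _ _ _))
  map_id x := by
    ext a i
    exact congr($((H i).map_id x) (a i))
  map_comp f g := by
    ext a i
    exact congr($((H i).map_comp f g) (a i))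

/-- Products of extra codegeneracies. -/
def XCo.pi {ι : Type w} {H : ι → Dp ⥤ AddCommGrpCat.{w}} (h : ∀ i, XCo (H i)) : XCo (piF H) where
  s' := AddCommGrpCat.ofHom (AddMonoidHom.mk' (fun a i => (h i).s' (a i)) (fun a b => by
    funext i
    exact map_add _ _ _))
  s n := AddCommGrpCat.ofHom (AddMonoidHom.mk' (fun a i => (h i).s n (a i)) (fun a b => by
    funext i
    exact map_add _ _ _))
  w' := by
    ext a
    funext i
    exact congr($((h i).w') (a i))
  w0' := by
    ext a
    funext i
    exact congr($((h i).w0') (a i))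
  w0 n := by
    ext a
    funext i
    exact congr($((h i).w0 n) (a i))
  w n j := by
    ext a
    funext i
    exact congr($((h i).w n j) (a i))

/-- Maps from a set to an abelian group. -/
def mapTo (M : AddCommGrpCat.{w}) : (Type w)ᵒᵖ ⥤ AddCommGrpCat.{w} where
  obj T := AddCommGrpCat.of (T.unop → M)
  map f := AddCommGrpCat.ofHom (AddMonoidHom.mk' (fun a t => a (f.unop t)) (fun _ _ => rfl))
  map_id _ := rfl
  map_comp _ _ := rfl

section

variable {T : Type u} [Category.{w} T] {ι : Type w} (wt : ι → T)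

/-- The coinduced presheaf on the test objects. -/
def Gam (P : Tᵒᵖ ⥤ AddCommGrpCat.{w}) : Tᵒᵖ ⥤ AddCommGrpCat.{w} :=
  piF fun i => (coyoneda.obj (op (wt i))).op ⋙ mapTo (P.obj (op (wt i)))

/-- The unit. -/
def toGam (P : Tᵒᵖ ⥤ AddCommGrpCat.{w}) : P ⟶ Gam wt P where
  app x := AddCommGrpCat.ofHom (AddMonoidHom.mk' (fun a i (f : wt i ⟶ x.unop) => P.map f.op a) (fun a b => by
    funext i f
    exact map_add _ _ _))
  naturality x y g := by
    ext a
    funext i (f : wt i ⟶ y.unop)
    change P.map f.op (P.map g a) = P.map (f ≫ g.unop).op a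
    rw [op_comp, Quiver.Hom.op_unop, P.map_comp]
    rfl

variable {wt}

theorem ex_comp_of_injective (I : Tᵒᵖ ⥤ AddCommGrpCat.{w}) [Injective I]
    (hI : ∀ (x : T) (a : I.obj (op x)), (∀ (i : ι) (f : wt i ⟶ x), I.map f.op a = 0) → a = 0)
    (σ : Dp ⥤ Tᵒᵖ) (hσ : ∀ i, XCo (σ ⋙ (coyoneda.obj (op (wt i))).op)) : Ex (σ ⋙ I) := by
  have hm : Mono (toGam wt I) := by
    have : ∀ x, Mono ((toGam wt I).app x) := by
      intro x
      rw [AddCommGrpCat.mono_iff_injective, injective_iff_map_eq_zero]
      intro a ha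
      exact hI _ _ (fun i f => congr_fun (congr_fun ha i) f)
    exact NatTrans.mono_of_mono_app _
  have h1 : toGam wt I ≫ Injective.factorThru (𝟙 I) (toGam wt I) = 𝟙 I := Injective.comp_factorThru _ _
  have h2 : Ex (σ ⋙ Gam wt I) := by
    have h3 : XCo (piF fun i => (σ ⋙ (coyoneda.obj (op (wt i))).op) ⋙ mapTo (I.obj (op (wt i)))) :=
      XCo.pi fun i => (hσ i).map (mapTo (I.obj (op (wt i))))
    exact h3.ex
  refine h2.retract (Functor.whiskerLeft σ (toGam wt I))
    (Functor.whiskerLeft σ (Injective.factorThru (𝟙 I) (toGam wt I))) ?_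
  rw [← Functor.whiskerLeft_comp, h1]
  rfl

end

end K781.Desc
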