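import Groth.Agent.FibDesc.K781.Crit0

/-!
# Rows: exactness for injective sheaves on the part; flasqueness
-/

set_option autoImplicit false
set_option backward.isDefEq.respectTransparency false
set_option backward.isDefEq.respectTransparency.types false

universe v v' w u

open CategoryTheory CategoryTheory.Limits ComplexShape Opposite TopologicalSpace FibDesc
  Pseudofunctor.CoGrothendieck

namespace K781.Crit

open K781.Desc K781.God K781.Site Groth.Agent.PerfB.DQAdj K61.Fub

section General

variable {D : Type u} [Category.{v} D]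

lemma surj_Gm {ι : Type v'} (wt : ι → D) (M : ι → AddCommGrpCat.{max w v v'}) {x y : D} (g : x ⟶ y) [Epi g]
    (b : (Gm wt M).obj y) : ∃ a : (Gm wt M).obj x, (Gm wt M).map g a = b := by
  classical
  refine ⟨fun i f => if h : ∃ f' : y ⟶ wt i, g ≫ f' = f then (b : ∀ i, (y ⟶ wt i) → M i) i h.choose else 0, ?_⟩
  funext i f
  change (if h : ∃ f' : y ⟶ wt i, g ≫ f' = g ≫ f then (b : ∀ i, (y ⟶ wt i) → M i) i h.choose else 0) = b i f
  have h : ∃ f' : y ⟶ wt i, g ≫ f' = g ≫ f := ⟨f, rfl⟩
  rw [dif_pos h]
  have h2 : h.choose = f := (cancel_epi g).1 h.choose_spec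
  rw [h2]

/-- Injective functors send epimorphisms to surjections. -/
theorem epi_map_of_injective (I : D ⥤ AddCommGrpCat.{max w v u}) [Injective I] {x y : D} (g : x ⟶ y) [Epi g] :
    Epi (I.map g) := by
  let m : I ⟶ Gm.{u, v, w} (id : D → D) fun i => I.obj i := toGm _ fun i => 𝟙 _
  have hm : Mono m := mono_toGm _ _ fun x a h => by simpa using h x (𝟙 x)
  let r := Injective.factorThru (𝟙 I) m
  have h1 : m ≫ r = 𝟙 I := Injective.comp_factorThru _ _
  have h2 : ∀ z (b : I.obj z), r.app z (m.app z b) = b := fun z b => congr($(NatTrans.congr_app h1 z) b)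
  rw [AddCommGrpCat.epi_iff_surjective]
  intro b
  obtain ⟨a, ha⟩ := surj_Gm (id : D → D) (fun i => I.obj i) g (m.app y b)
  refine ⟨r.app x a, ?_⟩
  have h3 : I.map g (r.app x a) = r.app y ((Gm.{u, v, w} (id : D → D) fun i => I.obj i).map g a) :=
    congr($((r.naturality g).symm) a)
  rw [h3]
  erw [ha]
  exact h2 y b

end General

section

variable (Z : Dpᵒᵖ ⥤ TopCat.{u})

/-- The total category. -/
abbrev TZ : Type u := ∫ᶜ (topAug Z)

instance : (incl (topAug Z)).Full where
  map_surjective {x y} f := by
    obtain ⟨b, φ⟩ := f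
    obtain ⟨b', rfl⟩ := (toAug SimplexCategory).map_surjective b
    exact ⟨⟨b', φ⟩, rfl⟩

instance : (incl (topAug Z)).Faithful where
  map_injective {x y} f g h := by
    have h1 : f.base = g.base := (toAug SimplexCategory).map_injective (congr_arg Hom.base h)
    refine Hom.ext _ _ h1 ?_
    exact Subsingleton.elim (α := ((x.fiber : Opens (Z.obj _)) ⟶
      (Opens.map (Z.map ((toAug SimplexCategory).map f.base))).obj y.fiber)) _ _

/-- The diagram of open subsets over an open subset of the base. -/
noncomputable def σ' (U : Opens (Z.obj (op WithInitial.star))) : Dp ⥤ (TZ Z)ᵒᵖ where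
  obj x := op (pt Z (op x) ((Opens.map (Z.map (init x).op)).obj U))
  map {x y} f := (pm Z f.op _ _ (by
    rw [← init_comp f, op_comp, Z.map_comp]
    exact le_rfl)).op
  map_id x := by
    apply Quiver.Hom.unop_inj
    exact hom_ext' _ _ _ rfl
  map_comp f g := by
    apply Quiver.Hom.unop_inj
    exact hom_ext' _ _ _ rfl


instance isIso_counit_adjI : IsIso (adjI Z).counit := by
  have h : ∀ F, IsIso ((adjI Z).counit.app F) := by
    intro F
    have e : ((adjI Z).counit.app F).hom = ((incl (topAug Z)).op.ranAdjunction AddCommGrpCat.{u}).counit.app F.obj :=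
      (incl (topAug Z)).sheafAdjunctionCocontinuous_counit_app_hom AddCommGrpCat.{u}
        (totPart (topAug Z) (topAugTop Z)) (totAug (topAug Z) (topAugTop Z)) F
    have : IsIso ((sheafToPresheaf _ AddCommGrpCat.{u}).map ((adjI Z).counit.app F)) := by
      change IsIso ((adjI Z).counit.app F).hom
      rw [e, Functor.ranAdjunction_counit]
      infer_instance
    exact isIso_of_reflects_iso ((adjI Z).counit.app F) (sheafToPresheaf _ AddCommGrpCat.{u})
  exact NatIso.isIso_of_isIso_app _

/-- The presheaf underlying the right Kan extension of an injective sheaf is injective. -/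
lemma injective_ir (I : ShB Z) [Injective I] : Injective ((ir Z).obj I).obj := by
  have h1 : Injective ((ir Z).obj I) := Injective.injective_of_adjoint (adjI Z) I
  exact Injective.injective_of_adjoint (sheafificationAdjunction _ AddCommGrpCat.{u}) ((ir Z).obj I)

lemma injective_pre (I : ShB Z) [Injective I] : Injective I.obj :=
  Injective.injective_of_adjoint (sheafificationAdjunction _ AddCommGrpCat.{u}) I

lemma detect (I : ShB Z) (x : (TZ Z)ᵒᵖ) (a : ((ir Z).obj I).obj.obj x)
    (h : ∀ (y : ∫ᶜ (part (topAug Z))) (f : x ⟶ op ((incl (topAug Z)).obj y)), ((ir Z).obj I).obj.map f a = 0) :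
    a = 0 := by
  have hl := ((incl (topAug Z)).op.isPointwiseRightKanExtensionRanCounit I.obj) x
  refine Concrete.isLimit_ext _ hl _ _ fun f => ?_
  rw [map_zero]
  change ((incl (topAug Z)).op.ranCounit.app I.obj).app f.right (((ir Z).obj I).obj.map f.hom a) = 0
  have h1 := h f.right.unop f.hom
  erw [h1]
  exact map_zero _

section xd

variable {Z} {U : Opens (Z.obj (op WithInitial.star))} {y : ∫ᶜ (part (topAug Z))}

/-- The underlying morphism of the augmented simplex category. -/
noncomputable def bs {x : Dp} (f : (σ' Z U).obj x ⟶ op ((incl (topAug Z)).obj y)) : x ⟶ ob y.base.unop.len := f.unop.base.unop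

/-- The open set underlying `y`. -/
abbrev fy (y : ∫ᶜ (part (topAug Z))) : Opens (Z.obj (op (ob y.base.unop.len))) := y.fiber

lemma map_init_comp {x x' : Dp} (b : x ⟶ x') (U : Opens (Z.obj (op WithInitial.star))) :
    (Opens.map (Z.map b.op)).obj ((Opens.map (Z.map (init x).op)).obj U) =
      (Opens.map (Z.map (init x').op)).obj U := by
  rw [← init_comp b, op_comp, Z.map_comp]
  rfl

lemma cond {x : Dp} (f : (σ' Z U).obj x ⟶ op ((incl (topAug Z)).obj y)) :
    fy y ≤ (Opens.map (Z.map (init (ob y.base.unop.len)).op)).obj U := by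
  rw [← map_init_comp (bs f)]
  exact leOfHom f.unop.fiber

/-- Constructor. -/
noncomputable def mkσ (c : fy y ≤ (Opens.map (Z.map (init (ob y.base.unop.len)).op)).obj U) {x : Dp}
    (b : x ⟶ ob y.base.unop.len) : (σ' Z U).obj x ⟶ op ((incl (topAug Z)).obj y) :=
  (pm Z b.op (fy y) ((Opens.map (Z.map (init x).op)).obj U) (by
    rw [map_init_comp]
    exact c)).op

lemma bs_inj {x : Dp} {f g : (σ' Z U).obj x ⟶ op ((incl (topAug Z)).obj y)} (h : bs f = bs g) : f = g := by
  apply Quiver.Hom.unop_inj
  exact hom_ext' _ f.unop g.unop (Quiver.Hom.unop_inj h)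

lemma bs_comp {x x' : Dp} (a : x ⟶ x') (f : (σ' Z U).obj x' ⟶ op ((incl (topAug Z)).obj y)) :
    bs ((σ' Z U).map a ≫ f) = a ≫ bs f := rfl

lemma bs_mkσ (c : fy y ≤ (Opens.map (Z.map (init (ob y.base.unop.len)).op)).obj U) {x : Dp}
    (b : x ⟶ ob y.base.unop.len) : bs (mkσ c b) = b := rfl

end xd

/-- The extra degeneracy of the augmented simplicial set of morphisms to the diagram of open subsets. -/
noncomputable def xdσ (U : Opens (Z.obj (op WithInitial.star))) (y : ∫ᶜ (part (topAug Z))) :
    XD (σ' Z U) (op ((incl (topAug Z)).obj y)) where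
  t' f := mkσ (cond f) ((xdSimplex y.base.unop.len).t' (bs f))
  t n f := mkσ (cond f) ((xdSimplex y.base.unop.len).t n (bs f))
  e' f := bs_inj ((xdSimplex y.base.unop.len).e' (bs f))
  e0' f := bs_inj ((xdSimplex y.base.unop.len).e0' (bs f))
  e0 n f := bs_inj ((xdSimplex y.base.unop.len).e0 n (bs f))
  e n i f := bs_inj ((xdSimplex y.base.unop.len).e n i (bs f))

theorem augExact_ir (I : ShB Z) [Injective I] (U : Opens (Z.obj (op WithInitial.star))) :
    AugExact (σ' Z U ⋙ ((ir Z).obj I).obj) := by
  have := injective_ir Z I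
  exact augExact_of_ex (ex_of_injective (wt := fun y : ∫ᶜ (part (topAug Z)) => op ((incl (topAug Z)).obj y))
    (fun y => xdσ Z U y) ((ir Z).obj I).obj (detect Z I))

end

end K781.Crit
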