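import Groth.Agent.FibDesc.K781.Defs
import Groth.Agent.PerfB.DQAdj

/-!
# Reduction of the unit condition for a composite adjunction
-/

set_option autoImplicit false
set_option backward.isDefEq.respectTransparency false
set_option backward.isDefEq.respectTransparency.types false

universe v₁ v₂ v₃ u₁ u₂ u₃

open CategoryTheory CategoryTheory.Limits ComplexShape Opposite Groth.Agent.PerfB.DQAdj

namespace K781.FF

section

variable {B : Type u₂} [Category.{v₂} B] [Abelian B]

/-- Extension along a quasi-isomorphism of a morphism from a single complex to a bounded below complex of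
injectives. -/
lemma exists_lift_single {X : B} {K I : CochainComplex B ℤ} (hI : ∀ n, Injective (I.X n))
    (hI' : ∀ n < 0, IsZero (I.X n)) (e : (HomologicalComplex.single B (up ℤ) 0).obj X ⟶ K) [QuasiIso e]
    (ψ : (HomologicalComplex.single B (up ℤ) 0).obj X ⟶ I) : ∃ g : K ⟶ I, e ≫ g = ψ := by
  let _ := HasDerivedCategory.standard B
  have h1 : I.IsStrictlyGE 0 := (CochainComplex.isStrictlyGE_iff _ _).2 hI'
  have h2 : I.IsKInjective := CochainComplex.isKInjective_of_injective I 0
  obtain ⟨g, hg⟩ := exists_Q_map_eq (X := K) (I := I) (inv (DerivedCategory.Q.map e) ≫ DerivedCategory.Q.map ψ)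
  have h3 : DerivedCategory.Q.map (e ≫ g) = DerivedCategory.Q.map ψ := by
    rw [Functor.map_comp, hg, IsIso.hom_inv_id_assoc]
  obtain ⟨h⟩ := homotopic_of_Q_map_eq h3
  refine ⟨g, ?_⟩
  apply HomologicalComplex.from_single_hom_ext
  have h4 := h.comm 0
  have h5 : h.hom 0 (-1) = 0 := (hI' (-1) (by simp)).eq_of_tgt _ _
  have h6 : h.hom 1 0 = 0 := (HomologicalComplex.isZero_single_obj_X (up ℤ) 0 X 1 (by simp)).eq_of_src _ _
  rw [dNext_eq (i := 0) (i' := 1) _ (by simp), prevD_eq (j := 0) (j' := -1) _ (by simp), h5, h6, comp_zero,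
    zero_comp, zero_add, zero_add] at h4
  exact h4

end

section

variable {A : Type u₁} {E : Type u₂} {B : Type u₃} [Category.{v₁} A] [Category.{v₂} E] [Category.{v₃} B]
  [Abelian A] [Abelian E] [Abelian B]
  {el : A ⥤ E} {er : E ⥤ A} (adjE : el ⊣ er) {il : E ⥤ B} {ir : B ⥤ E} (adjI : il ⊣ ir)
  [er.Additive] [il.Additive] [ir.Additive]
  [PreservesFiniteLimits er] [PreservesFiniteColimits er] [PreservesFiniteLimits il] [PreservesFiniteColimits il]

/-- The image of an augmentation. -/
noncomputable def mapAug (F : E ⥤ A) [F.Additive] {R : E} {M : CochainComplex E ℤ}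
    (r : (HomologicalComplex.single E (up ℤ) 0).obj R ⟶ M) :
    (HomologicalComplex.single A (up ℤ) 0).obj (F.obj R) ⟶ (mapCx F).obj M :=
  (HomologicalComplex.singleMapHomologicalComplex F (up ℤ) 0).inv.app R ≫ (mapCx F).map r

lemma mapAug_f_zero (F : E ⥤ A) [F.Additive] {R : E} {M : CochainComplex E ℤ}
    (r : (HomologicalComplex.single E (up ℤ) 0).obj R ⟶ M) :
    (mapAug F r).f 0 = (HomologicalComplex.singleObjXSelf (up ℤ) 0 (F.obj R)).hom ≫
      F.map ((HomologicalComplex.singleObjXSelf (up ℤ) 0 R).inv ≫ r.f 0) := by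
  rw [mapAug, HomologicalComplex.comp_f, F.map_comp, ← Category.assoc]
  congr 1
  simp [HomologicalComplex.singleMapHomologicalComplex_inv_app_self]

instance quasiIso_mapAug (F : E ⥤ A) [F.Additive] [PreservesFiniteLimits F] [PreservesFiniteColimits F]
    {R : E} {M : CochainComplex E ℤ}
    (r : (HomologicalComplex.single E (up ℤ) 0).obj R ⟶ M) [QuasiIso r] : QuasiIso (mapAug F r) := by
  rw [mapAug]
  infer_instance

include adjE in
theorem unit_reduction {R : E} [IsIso (adjE.counit.app R)] {M : CochainComplex E ℤ}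
    (r : (HomologicalComplex.single E (up ℤ) 0).obj R ⟶ M) [QuasiIso r]
    {I : CochainComplex B ℤ} (hI : ∀ n, Injective (I.X n)) (hI' : ∀ n < 0, IsZero (I.X n))
    (ψ : (HomologicalComplex.single B (up ℤ) 0).obj ((el ⋙ il).obj (er.obj R)) ⟶ I) [QuasiIso ψ] :
    ∃ g : (mapCx il).obj M ⟶ I, QuasiIso g ∧
      (QuasiIso (adjSingle (adjE.comp adjI) (er.obj R) ψ) ↔
        QuasiIso ((mapCx er).map (unitCx adjI M ≫ (mapCx ir).map g))) := by
  let ε : (el ⋙ il).obj (er.obj R) ≅ il.obj R := il.mapIso (asIso (adjE.counit.app R))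
  let e : (HomologicalComplex.single B (up ℤ) 0).obj ((el ⋙ il).obj (er.obj R)) ⟶ (mapCx il).obj M :=
    (HomologicalComplex.single B (up ℤ) 0).map ε.hom ≫ mapAug il r
  have he : QuasiIso e := by
    dsimp only [e]
    infer_instance
  obtain ⟨g, hg⟩ := exists_lift_single hI hI' e ψ
  have hg' : QuasiIso g := by
    have : QuasiIso (e ≫ g) := by rw [hg]; infer_instance
    exact (quasiIso_iff_comp_left e g).1 this
  refine ⟨g, hg', ?_⟩
  have key : adjSingle (adjE.comp adjI) (er.obj R) ψ = mapAug er r ≫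
      (mapCx er).map (unitCx adjI M ≫ (mapCx ir).map g) := by
    apply HomologicalComplex.from_single_hom_ext
    let ρ : R ⟶ M.X 0 := (HomologicalComplex.singleObjXSelf (up ℤ) 0 R).inv ≫ r.f 0
    have h1 : (HomologicalComplex.singleObjXSelf (up ℤ) 0 ((el ⋙ il).obj (er.obj R))).inv ≫ ψ.f 0 =
        il.map (adjE.counit.app R ≫ ρ) ≫ g.f 0 := by
      rw [← hg, HomologicalComplex.comp_f, HomologicalComplex.comp_f, mapAug_f_zero,
        HomologicalComplex.single_map_f_self]
      simp only [Category.assoc, Iso.inv_hom_id_assoc, il.map_comp, ρ]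
      rfl
    have h2 : (adjE.comp adjI).homEquiv (er.obj R) (I.X 0) (il.map (adjE.counit.app R ≫ ρ) ≫ g.f 0) =
        er.map ρ ≫ er.map (adjI.unit.app (M.X 0) ≫ ir.map (g.f 0)) := by
      rw [Adjunction.homEquiv_unit, Adjunction.comp_unit_app, Functor.comp_map, ir.map_comp, Category.assoc,
        ← er.map_comp, adjI.unit_naturality_assoc, ← er.map_comp, Category.assoc, er.map_comp]
      exact adjE.right_triangle_components_assoc _ _
    rw [HomologicalComplex.comp_f, mapAug_f_zero, adjSingle, HomologicalComplex.mkHomFromSingle_f, h1, h2,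
      Category.assoc]
    rfl
  rw [key]
  exact quasiIso_iff_comp_left _ _

end

end K781.FF
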