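import Groth.Agent.FibDesc.K781.Inj
import Mathlib.AlgebraicTopology.SimplicialObject.Coskeletal
import Mathlib.AlgebraicTopology.CechNerve
import Mathlib.CategoryTheory.WithTerminal.Basic

/-!
# Restriction of complexes of functors; augmented Cech nerves; the map adjoint to a map from an inverse image
-/

set_option autoImplicit false
set_option backward.isDefEq.respectTransparency false
set_option backward.isDefEq.respectTransparency.types false

universe u v v₁ v₂ u₁ u₂

open CategoryTheory CategoryTheory.Limits ComplexShape Opposite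

namespace K781.Desc

/-- Restriction of a complex of functors along `σ`. -/
noncomputable abbrev rs {C D V : Type*} [Category* C] [Category* D] [Category* V] [Preadditive V] (σ : C ⥤ D)
    (A : CochainComplex (D ⥤ V) ℤ) : CochainComplex (C ⥤ V) ℤ :=
  (((Functor.whiskeringLeft _ _ V).obj σ).mapHomologicalComplex (up ℤ)).obj A

/-- The functor `(x, -)`. -/
abbrev secL (x : Dp) : Dp ⥤ Dp × Dp := Prod.sectR x Dp

/-- The functor `(-, y)`. -/
abbrev secR (y : Dp) : Dp ⥤ Dp × Dp := Prod.sectL Dp y

section

variable {C : Type u} [Category.{v} C]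

/-- The augmented Cech nerve as a functor `Dp ⥤ Cᵒᵖ`. -/
noncomputable abbrev cech
    [∀ (n : ℕ) (f : Arrow C), HasWidePullback f.right (fun _ : Fin (n + 1) => f.left) fun _ => f.hom]
    {X T : C} (f : X ⟶ T) : Dp ⥤ Cᵒᵖ :=
  (AugmentedSimplexCategory.equivAugmentedSimplicialObject.inverse.obj (Arrow.mk f).augmentedCechNerve).rightOp

/-- A simplicial object over a final object. -/
noncomputable abbrev aug1 (K : SimplicialObject C) {S : C} (hS : IsTerminal S) : Dp ⥤ Cᵒᵖ :=
  (AugmentedSimplexCategory.equivAugmentedSimplicialObject.inverse.obj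
    (SimplicialObject.augment K S (hS.from _) (fun _ _ _ => hS.hom_ext _ _))).rightOp

end

end K781.Desc

namespace K781.FF

variable {A : Type u₁} {B : Type u₂} [Category.{v₁} A] [Category.{v₂} B] [Abelian A] [Abelian B]
  {a : A ⥤ B} {b : B ⥤ A} (adj : a ⊣ b) [b.Additive]

/-- The morphism of complexes `L[0] ⟶ b I` adjoint to `(a L)[0] ⟶ I`. -/
noncomputable def adjSingle (L : A) {I : CochainComplex B ℤ}
    (φ : (HomologicalComplex.single B (up ℤ) 0).obj (a.obj L) ⟶ I) :
    (HomologicalComplex.single A (up ℤ) 0).obj L ⟶ (b.mapHomologicalComplex (up ℤ)).obj I :=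
  HomologicalComplex.mkHomFromSingle
    (adj.homEquiv _ _ ((HomologicalComplex.singleObjXSelf (up ℤ) 0 (a.obj L)).inv ≫ φ.f 0)) (by
      rintro k rfl
      change _ ≫ b.map _ = _
      rw [← Adjunction.homEquiv_naturality_right, Category.assoc, φ.comm 0 (0 + 1)]
      rw [show ((HomologicalComplex.single B (up ℤ) 0).obj (a.obj L)).d 0 (0 + 1) = 0 from rfl, zero_comp,
        comp_zero, Adjunction.homEquiv_unit, b.map_zero, comp_zero])

/-- `L ⟶ R b (a L)` is an isomorphism. -/
def UnitOK (L : A) : Prop :=
  ∀ (I : CochainComplex B ℤ), (∀ n, Injective (I.X n)) → (∀ n < 0, IsZero (I.X n)) →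
    ∀ (φ : (HomologicalComplex.single B (up ℤ) 0).obj (a.obj L) ⟶ I), QuasiIso φ →
      QuasiIso (adjSingle adj L φ)

end K781.FF
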