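import Groth.Agent.FibDesc.K781.Counit
import Groth.Agent.FibDesc.K781.Abs
import Groth.Agent.FibDesc.K61.Coind
import Groth.Agent.FibDesc.K166.Flq
import Groth.Agent.FibDesc.K781.Defs4
import Mathlib.CategoryTheory.Adjunction.Triple

/-!
# The functors of the augmentation and their formal properties
-/

set_option autoImplicit false
set_option backward.isDefEq.respectTransparency false
set_option backward.isDefEq.respectTransparency.types false

universe u

open CategoryTheory CategoryTheory.Limits ComplexShape Opposite TopologicalSpace FibDesc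
  Pseudofunctor.CoGrothendieck

namespace K781.Crit

open K781.Desc K781.God K781.Site Groth.Agent.PerfB.DQAdj

section

variable (Z : Dpᵒᵖ ⥤ TopCat.{u})

/-- Sheaves on the base. -/
abbrev ShA := BaseSh (topAug Z) (topAugTop Z) AddCommGrpCat.{u}
/-- Sheaves on the total site. -/
abbrev ShE := Sheaf (totAug (topAug Z) (topAugTop Z)) AddCommGrpCat.{u}
/-- Sheaves on the total site of the part. -/
abbrev ShB := DSh (topAug Z) (topAugTop Z) AddCommGrpCat.{u}

/-- Extension from the base. -/
noncomputable abbrev el : ShA Z ⥤ ShE Z := FibSite.extend (topAug Z) (topAugTop Z) AddCommGrpCat.{u} (bot _)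
/-- Restriction to the base. -/
noncomputable abbrev er : ShE Z ⥤ ShA Z := FibSite.restr (topAug Z) (topAugTop Z) AddCommGrpCat.{u} (bot _)
/-- Restriction to the part. -/
noncomputable abbrev il : ShE Z ⥤ ShB Z :=
  (incl (topAug Z)).sheafPushforwardContinuous AddCommGrpCat.{u} (totPart (topAug Z) (topAugTop Z))
    (totAug (topAug Z) (topAugTop Z))
/-- Right Kan extension from the part. -/
noncomputable abbrev ir : ShB Z ⥤ ShE Z :=
  (incl (topAug Z)).sheafPushforwardCocontinuous AddCommGrpCat.{u} (totPart (topAug Z) (topAugTop Z))
    (totAug (topAug Z) (topAugTop Z))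

/-- The adjunction with the base. -/
noncomputable abbrev adjE : el Z ⊣ er Z :=
  (eps (topAug Z)).sheafAdjunctionContinuous AddCommGrpCat.{u} (topAugTop Z (bot _)) (totAug (topAug Z) (topAugTop Z))
/-- The adjunction with the part. -/
noncomputable abbrev adjI : il Z ⊣ ir Z :=
  (incl (topAug Z)).sheafAdjunctionCocontinuous AddCommGrpCat.{u} (totPart (topAug Z) (topAugTop Z))
    (totAug (topAug Z) (topAugTop Z))

instance : PreservesFiniteLimits (er Z) := inferInstance
instance : PreservesFiniteColimits (er Z) := by
  have : (er Z).IsLeftAdjoint :=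
    ((eps (topAug Z)).sheafAdjunctionCocontinuous AddCommGrpCat.{u} (topAugTop Z (bot _))
      (totAug (topAug Z) (topAugTop Z))).isLeftAdjoint
  have : PreservesColimitsOfSize.{0, 0} (er Z) := (Adjunction.ofIsLeftAdjoint (er Z)).leftAdjoint_preservesColimits
  exact PreservesColimitsOfSize.preservesFiniteColimits _
instance : PreservesFiniteLimits (il Z) := inferInstance
instance : PreservesFiniteColimits (il Z) := by
  have : PreservesColimitsOfSize.{0, 0} (il Z) := (adjI Z).leftAdjoint_preservesColimits
  exact PreservesColimitsOfSize.preservesFiniteColimits _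

instance : (er Z).Additive where
instance : (il Z).Additive where
instance : (ir Z).Additive := (adjI Z).right_adjoint_additive

end

end K781.Crit
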