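import Groth.Agent.FibDesc.K781.Crit1

/-!
# Comparison of the unit condition with descent
-/

set_option autoImplicit false
set_option backward.isDefEq.respectTransparency false
set_option backward.isDefEq.respectTransparency.types false

universe v v' w u

open CategoryTheory CategoryTheory.Limits ComplexShape Opposite TopologicalSpace FibDesc
  Pseudofunctor.CoGrothendieck

namespace K781.Crit

open K781.Desc K781.God K781.Site Groth.Agent.PerfB.DQAdj K61.Fub

section

variable (Z : Dpᵒᵖ ⥤ TopCat.{u})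

/-- Sections over an object of the total site. -/
noncomputable abbrev evE (x : TZ Z) : ShE Z ⥤ AddCommGrpCat.{u} :=
  sheafToPresheaf _ _ ⋙ (evaluation _ _).obj (op x)

/-- Sections over an object of the total site of the part. -/
noncomputable abbrev evB (y : ∫ᶜ (part (topAug Z))) : ShB Z ⥤ AddCommGrpCat.{u} :=
  sheafToPresheaf _ _ ⋙ (evaluation _ _).obj (op y)

instance (i : SimplexCategoryᵒᵖ) : (ι (part (topAug Z)) i).IsContinuous (partTop (topAug Z) (topAugTop Z) i)
    (totPart (topAug Z) (topAugTop Z)) := K780.Cont.isContinuous_ι (isPreFibSite_part Z) i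

instance (i : SimplexCategoryᵒᵖ) : (ι (part (topAug Z)) i).IsCocontinuous (partTop (topAug Z) (topAugTop Z) i)
    (totPart (topAug Z) (topAugTop Z)) := K780.Cover.isCocontinuous_ι (isPreFibSite_part Z) i

/-- Restriction to a fibre of the part. -/
noncomputable abbrev rB (i : SimplexCategoryᵒᵖ) :
    ShB Z ⥤ Sheaf (Opens.grothendieckTopology (Z.obj (op (WithInitial.of i.unop)))) AddCommGrpCat.{u} :=
  FibSite.restr (part (topAug Z)) (partTop (topAug Z) (topAugTop Z)) AddCommGrpCat.{u} i

instance (i : SimplexCategoryᵒᵖ) : PreservesFiniteLimits (rB Z i) := by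
  have h : PreservesLimitsOfSize.{0, 0} (rB Z i) :=
    ((ι (part (topAug Z)) i).sheafAdjunctionContinuous AddCommGrpCat.{u} (partTop (topAug Z) (topAugTop Z) i)
      (totPart (topAug Z) (topAugTop Z))).rightAdjoint_preservesLimits
  exact PreservesLimitsOfSize.preservesFiniteLimits _

instance (i : SimplexCategoryᵒᵖ) : PreservesFiniteColimits (rB Z i) := by
  have h : PreservesColimitsOfSize.{0, 0} (rB Z i) :=
    ((ι (part (topAug Z)) i).sheafAdjunctionCocontinuous AddCommGrpCat.{u} (partTop (topAug Z) (topAugTop Z) i)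
      (totPart (topAug Z) (topAugTop Z))).leftAdjoint_preservesColimits
  exact PreservesColimitsOfSize.preservesFiniteColimits _

instance (i : SimplexCategoryᵒᵖ) : (rB Z i).Additive where

lemma bb_map {A B : Type*} [Category* A] [Category* B] [Abelian A] [Abelian B] (F : A ⥤ B) [F.Additive]
    {K : CochainComplex A ℤ} (hK : BB K) : BB ((mapCx F).obj K) := by
  obtain ⟨a, ha⟩ := hK
  exact ⟨a, fun i hi => F.map_isZero (ha i hi)⟩

lemma quasiIso_evB {K L : CochainComplex (ShB Z) ℤ} (g : K ⟶ L) [QuasiIso g] (hK : BB K) (hL : BB L)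
    (y : ∫ᶜ (part (topAug Z)))
    (fK : ∀ j, TopCat.Presheaf.IsFlasque ((rB Z y.base).obj (K.X j)).obj)
    (fL : ∀ j, TopCat.Presheaf.IsFlasque ((rB Z y.base).obj (L.X j)).obj) :
    QuasiIso ((mapCx (evB Z y)).map g) := by
  have h1 : QuasiIso ((mapCx (rB Z y.base)).map g) := inferInstance
  exact K781.Flq.quasiIso_sections (K := (mapCx (rB Z y.base)).obj K) (L := (mapCx (rB Z y.base)).obj L)
    (bb_map (rB Z y.base) hK) (bb_map (rB Z y.base) hL) fK fL ((mapCx (rB Z y.base)).map g)
    (y.fiber : Opens (Z.obj (op (WithInitial.of y.base.unop))))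

variable {Z} {M : CochainComplex (ShE Z) ℤ} {I : CochainComplex (ShB Z) ℤ} (g : (mapCx (il Z)).obj M ⟶ I)

/-- The adjoint morphism. -/
noncomputable abbrev gh : M ⟶ (mapCx (ir Z)).obj I := unitCx (adjI Z) M ≫ (mapCx (ir Z)).map g

lemma gh_counit : (mapCx (il Z)).map (gh g) ≫ counitCx (adjI Z) I = g := by
  rw [gh, Functor.map_comp, Category.assoc, counitCx_naturality, map_unitCx_counitCx_assoc]

lemma quasiIso_gh_iff (y : ∫ᶜ (part (topAug Z))) :
    QuasiIso ((mapCx (evE Z ((incl (topAug Z)).obj y))).map (gh g)) ↔ QuasiIso ((mapCx (evB Z y)).map g) := by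
  have h1 : (mapCx (evB Z y)).map ((mapCx (il Z)).map (gh g)) ≫ (mapCx (evB Z y)).map (counitCx (adjI Z) I) =
      (mapCx (evB Z y)).map g := by
    rw [← Functor.map_comp, gh_counit]
  have h2 : QuasiIso ((mapCx (evB Z y)).map (counitCx (adjI Z) I)) := inferInstance
  rw [← h1]
  exact (quasiIso_iff_comp_right ((mapCx (evE Z ((incl (topAug Z)).obj y))).map (gh g)) _).symm

end

end K781.Crit
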