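import Groth.Agent.FibDesc.K781.Crit2
import Groth.Agent.FibDesc.K61.Fubini

/-!
# The criterion for one resolution
-/

set_option autoImplicit false
set_option backward.isDefEq.respectTransparency false
set_option backward.isDefEq.respectTransparency.types false

universe v v' w u

open CategoryTheory CategoryTheory.Limits ComplexShape Opposite TopologicalSpace FibDesc
  Pseudofunctor.CoGrothendieck

namespace K781.Crit

open K781.Desc K781.God K781.Site Groth.Agent.PerfB.DQAdj K61.Fub K781.Row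

section

variable (Z : Dpᵒᵖ ⥤ TopCat.{u})

lemma mono_ix {i : Dpᵒᵖ} {U V : Opens (Z.obj i)} (h : U ≤ V) : Mono (ix Z h) where
  right_cancellation {X} f g e := by
    apply hom_ext'
    have h1 := congr_arg Hom.base e
    change f.base ≫ 𝟙 i = g.base ≫ 𝟙 i at h1
    rwa [Category.comp_id, Category.comp_id] at h1

lemma mono_ι_part (i : SimplexCategoryᵒᵖ) {U V : Opens (Z.obj (op (WithInitial.of i.unop)))} (r : U ⟶ V) :
    Mono ((ι (part (topAug Z)) i).map r) := by
  have h1 : Mono ((incl (topAug Z)).map ((ι (part (topAug Z)) i).map r)) := by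
    rw [incl_map_ι Z i r]
    exact mono_ix Z (leOfHom r)
  exact (incl (topAug Z)).mono_of_mono_map h1

lemma isFlasque_rB_of_injective (I : ShB Z) [Injective I] (i : SimplexCategoryᵒᵖ) :
    TopCat.Presheaf.IsFlasque ((rB Z i).obj I).obj where
  epi {U V} r := by
    have h1 := injective_pre Z I
    have h2 : Mono ((ι (part (topAug Z)) i).map r.unop) := mono_ι_part Z i r.unop
    exact epi_map_of_injective.{u, u, u} I.obj ((ι (part (topAug Z)) i).map r.unop).op

lemma isFlasque_er_of_injective (I : ShB Z) [Injective I] :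
    TopCat.Presheaf.IsFlasque ((er Z).obj ((ir Z).obj I)).obj := by
  have h1 : Injective ((er Z).obj ((ir Z).obj I)) :=
    Injective.injective_of_adjoint (FibDesc.adj (topAug Z) (topAugTop Z) AddCommGrpCat.{u}) I
  exact K781.Flq.isFlasque_of_injective _

end

variable {S : TopCat.{u}} (τ : Dpᵒᵖ ⥤ Over S) (P : (Over S)ᵒᵖ ⥤ AddCommGrpCat.{u})

lemma epi_G_ix (j : ℤ) {i : Dpᵒᵖ} {U V : Opens (τ.obj i).left} (h : U ≤ V) :
    Epi (((G P).X j).map ((Φ τ).map (ix (Y τ) h)).op) := by
  rw [Φ_ix]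
  exact (isFlasque_G P j (τ.obj i)).epi (homOfLE h).op

lemma isFlasque_rB_MM (j : ℤ) (i : SimplexCategoryᵒᵖ) :
    TopCat.Presheaf.IsFlasque ((rB (Y τ) i).obj ((il (Y τ)).obj ((MM τ P).X j))).obj where
  epi {U V} r := by
    change Epi (((G P).X j).map ((Φ τ).map ((incl (topAug (Y τ))).map
      ((ι (part (topAug (Y τ))) i).map r.unop))).op)
    rw [incl_map_ι (Y τ) i r.unop]
    exact epi_G_ix τ P j (leOfHom r.unop)

lemma isFlasque_er_MM (j : ℤ) :
    TopCat.Presheaf.IsFlasque ((er (Y τ)).obj ((MM τ P).X j)).obj where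
  epi {U V} r := epi_G_ix τ P j (leOfHom r.unop)

lemma bb_MM : BB (MM τ P) := by
  refine ⟨0, fun j hj => ?_⟩
  have h1 := G_neg P j hj
  rw [IsZero.iff_id_eq_zero] at h1 ⊢
  apply Sheaf.hom_ext
  change 𝟙 ((Φ τ).op ⋙ (G P).X j) = 0
  have h2 := congr_arg (Functor.whiskerLeft (Φ τ).op) h1
  exact ((wΦ τ).map_id ((G P).X j)).symm.trans h2

section main

variable {I : CochainComplex (ShB (Y τ)) ℤ} (hI : ∀ n, Injective (I.X n)) (hI' : ∀ n < 0, IsZero (I.X n))
  (g : (mapCx (il (Y τ))).obj (MM τ P) ⟶ I) [QuasiIso g]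

/-- The underlying complexes of presheaves. -/
noncomputable abbrev pre : ShE (Y τ) ⥤ ((TT τ)ᵒᵖ ⥤ AddCommGrpCat.{u}) := sheafToPresheaf _ _

/-- The comparison along the diagram of open subsets. -/
noncomputable def φU (U : Opens ((Y τ).obj (op WithInitial.star))) :
    rs (σ' (Y τ) U) ((mapCx (pre τ)).obj (MM τ P)) ⟶
      rs (σ' (Y τ) U) ((mapCx (pre τ)).obj ((mapCx (ir (Y τ))).obj I)) :=
  (((Functor.whiskeringLeft _ _ AddCommGrpCat.{u}).obj (σ' (Y τ) U)).mapHomologicalComplex (up ℤ)).map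
    ((mapCx (pre τ)).map (gh g))

lemma qAt_φU (U : Opens ((Y τ).obj (op WithInitial.star))) (x : Dp) :
    QAt (φU τ P g U) x ↔ QuasiIso ((mapCx (evE (Y τ) (pt (Y τ) (op x)
      ((Opens.map ((Y τ).map (init x).op)).obj U)))).map (gh g)) := Iff.rfl

lemma descP_iff (U : Opens ((Y τ).obj (op WithInitial.star))) :
    DescP P (subD τ U) ↔ IsDesc (rs (σ' (Y τ) U) ((mapCx (pre τ)).obj (MM τ P))) := Iff.rfl

include hI hI' in
lemma descP_iff_quasiIso (U : Opens ((Y τ).obj (op WithInitial.star))) :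
    DescP P (subD τ U) ↔ QuasiIso ((mapCx (evE (Y τ) (pt (Y τ) (op WithInitial.star) U))).map (gh g)) := by
  have hBI : BB I := ⟨0, hI'⟩
  rw [descP_iff]
  refine (isDesc_iff_of_res (K61.Fub.bb_rs _ (bb_map (pre τ) (bb_MM τ P)))
    (K61.Fub.bb_rs _ (bb_map (pre τ) (bb_map (ir (Y τ)) hBI))) (φU τ P g U) ?_ ?_).trans ?_
  · intro n
    rw [qAt_φU]
    let y : ∫ᶜ (part (topAug (Y τ))) :=
      ⟨op (SimplexCategory.mk n), (Opens.map ((Y τ).map (init (ob n)).op)).obj U⟩
    refine (quasiIso_gh_iff g y).2 (quasiIso_evB (Y τ) g (bb_map (il (Y τ)) (bb_MM τ P)) hBI y ?_ ?_)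
    · exact fun j => isFlasque_rB_MM τ P j y.base
    · intro j
      have := hI j
      exact isFlasque_rB_of_injective (Y τ) (I.X j) y.base
  · intro q
    have := hI q
    exact augExact_ir (Y τ) (I.X q) U
  · rw [qAt_φU]
    have h : (Opens.map ((Y τ).map (init WithInitial.star).op)).obj U = U := by
      have h1 : init WithInitial.star = 𝟙 (WithInitial.star : Dp) := WithInitial.starInitial.hom_ext _ _
      rw [h1, op_id, (Y τ).map_id]
      rfl
    rw [h]

include hI hI' in
/-- The criterion for one resolution. -/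
theorem quasiIso_er_gh_iff (B : Set (Opens ((Y τ).obj (op WithInitial.star))))
    (hB : TopologicalSpace.Opens.IsBasis B) :
    QuasiIso ((mapCx (er (Y τ))).map (gh g)) ↔ ∀ U ∈ B, DescP P (subD τ U) := by
  have hBI : BB I := ⟨0, hI'⟩
  constructor
  · intro h U _
    rw [descP_iff_quasiIso τ P hI hI' g U]
    exact K781.Flq.quasiIso_sections (K := (mapCx (er (Y τ))).obj (MM τ P))
      (L := (mapCx (er (Y τ))).obj ((mapCx (ir (Y τ))).obj I)) (bb_map (er (Y τ)) (bb_MM τ P))
      (bb_map (er (Y τ)) (bb_map (ir (Y τ)) hBI)) (isFlasque_er_MM τ P)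
      (fun j => by
        have := hI j
        exact isFlasque_er_of_injective (Y τ) (I.X j)) ((mapCx (er (Y τ))).map (gh g)) U
  · intro h
    refine K781.Flq.quasiIso_of_sections (K := (mapCx (er (Y τ))).obj (MM τ P))
      (L := (mapCx (er (Y τ))).obj ((mapCx (ir (Y τ))).obj I)) ((mapCx (er (Y τ))).map (gh g)) B hB fun U hU => ?_
    exact (descP_iff_quasiIso τ P hI hI' g U).1 (h U hU)

end main

end K781.Crit
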