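import Groth.Agent.FibDesc.K781.Sub
import Groth.Agent.CohqA.CechFlasque

/-!
# The Godement presheaf on the category of spaces over `S`
-/

set_option autoImplicit false
set_option backward.isDefEq.respectTransparency false
set_option backward.isDefEq.respectTransparency.types false

universe u

open CategoryTheory CategoryTheory.Limits Opposite TopologicalSpace

namespace K781.God

variable {S : TopCat.{u}} (P : (Over S)ᵒᵖ ⥤ AddCommGrpCat.{u})

/-- The germ of a global section. -/
noncomputable def gl (T : Over S) (t : T.left) : P.obj (op T) ⟶ st P T t :=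
  P.map (subι T ⊤).op ≫ gm P T t ⊤ trivial

lemma gm_subι {T : Over S} {t : T.left} (U : Opens T.left) (ht : t ∈ U) (x : P.obj (op T)) :
    gm P T t U ht (P.map (subι T U).op x) = gl P T t x := by
  have h1 := gm_res P (show U ≤ ⊤ from le_top) ht (P.map (subι T ⊤).op x)
  rw [mm' P _ _ _ (subMap_ι T (show U ≤ ⊤ from le_top)) x] at h1
  exact h1

lemma stRes_gl {T T' : Over S} (h : T' ⟶ T) (t : T'.left) (x : P.obj (op T)) :
    stRes P h t (gl P T (h.left t) x) = gl P T' t (P.map h.op x) := by
  have h1 := stRes_gm P h t ⊤ trivial ⊤ trivial (fun _ _ => trivial) (P.map (subι T ⊤).op x)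
  rw [mm' P _ _ _ (subRes_ι h ⊤ ⊤ (fun _ _ => trivial)) x, ← mm] at h1
  exact h1

lemma gl_eq_zero {T : Over S} {t : T.left} (x : P.obj (op T)) (h : gl P T t x = 0) :
    ∃ (U : Opens T.left) (_ : t ∈ U), P.map (subι T U).op x = 0 := by
  obtain ⟨W, hW, hWV, e⟩ := gm_eq_zero P _ _ h
  refine ⟨W, hW, ?_⟩
  rw [← subMap_ι T hWV, ← mm]
  exact e

lemma stRes_congr {T T' : Over S} {k k' : T' ⟶ T} (e : k = k') (t : T'.left) (x : st P T (k.left t))
    (y : st P T (k'.left t)) (h : HEq x y) : stRes P k t x = stRes P k' t y := by
  subst e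
  rw [eq_of_heq h]

/-- The Godement presheaf: `T ↦ ∏_{t ∈ T} P_t`. -/
noncomputable def God : (Over S)ᵒᵖ ⥤ AddCommGrpCat.{u} where
  obj T := AddCommGrpCat.of (∀ t : T.unop.left, st P T.unop t)
  map {T T'} h := AddCommGrpCat.ofHom (AddMonoidHom.mk' (fun a t => stRes P h.unop t (a (h.unop.left t)))
    (fun a b => by
      funext t
      exact map_add _ _ _))
  map_id T := by
    ext a t
    exact stRes_id P t (a t)
  map_comp {T T' T''} g h := by
    ext a t
    exact stRes_comp P h.unop g.unop t _

/-- Evaluation at a point. -/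
noncomputable def evG (T : Over S) (t : T.left) : (God P).obj (op T) ⟶ st P T t :=
  AddCommGrpCat.ofHom (Pi.evalAddMonoidHom _ t)

lemma god_ext {T : Over S} {a b : (God P).obj (op T)} (h : ∀ t : T.left, evG P T t a = evG P T t b) : a = b :=
  funext h

lemma evG_map {T T' : Over S} (h : T' ⟶ T) (t : T'.left) (a : (God P).obj (op T)) :
    evG P T' t ((God P).map h.op a) = stRes P h t (evG P T (h.left t) a) := rfl

/-- The canonical map. -/
noncomputable def toGod : P ⟶ God P where
  app T := AddCommGrpCat.ofHom (AddMonoidHom.mk' (fun x t => gl P T.unop t x) (fun a b => by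
    funext t
    exact map_add _ _ _))
  naturality {T T'} h := by
    ext x
    funext t
    exact (stRes_gl P h.unop t x).symm

lemma evG_toGod {T : Over S} (t : T.left) (x : P.obj (op T)) :
    evG P T t ((toGod P).app (op T) x) = gl P T t x := rfl

section Flasque

open Groth.Agent.CohqA.CechFlasque

variable (T : Over S)

/-- On the small site the Godement presheaf is the presheaf of discontinuous sections. -/
noncomputable def pshGod : discrPre (fun t => st P T t) ⟶ psh (God P) T where
  app U := AddCommGrpCat.ofHom (AddMonoidHom.mk'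
    (fun (a : ∀ x : U.unop, st P T x.1) (t : (sub T U.unop).left) => stRes P (subι T U.unop) t (a t))
    (fun a b => by
      funext t
      exact map_add _ _ _))
  naturality {U V} i := by
    ext a
    funext (t : (sub T V.unop).left)
    change stRes P (subι T V.unop) t _ =
      stRes P (subMap T i.unop.le) t (stRes P (subι T U.unop) ((subMap T i.unop.le).left t) _)
    rw [← stRes_comp]
    exact stRes_congr P (subMap_ι T i.unop.le).symm t _ _ HEq.rfl

lemma isIso_pshGod : IsIso (pshGod P T) := by
  have : ∀ U, IsIso ((pshGod P T).app U) := by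
    intro U
    rw [ConcreteCategory.isIso_iff_bijective]
    constructor
    · rw [injective_iff_map_eq_zero]
      intro a ha
      funext t
      exact stRes_injective P T U.unop t _ (congr_fun ha t)
    · intro b
      choose a ha using fun t : (sub T U.unop).left => stRes_surjective P T U.unop t (b t)
      exact ⟨a, funext ha⟩
  exact NatIso.isIso_of_isIso_app _

/-- The isomorphism with the presheaf of discontinuous sections. -/
noncomputable def pshGodIso : discrPre (fun t => st P T t) ≅ psh (God P) T :=
  have := isIso_pshGod P T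
  asIso (pshGod P T)

lemma isSheaf_god : TopCat.Presheaf.IsSheaf (psh (God P) T) :=
  TopCat.Presheaf.isSheaf_of_iso (pshGodIso P T) (discrPre_isSheaf _)

lemma epi_discr {U V : (Opens T.left)ᵒᵖ} (i : U ⟶ V) : Epi ((discrPre (fun t => st P T t)).map i) := by
  classical
  rw [AddCommGrpCat.epi_iff_surjective]
  intro b
  refine ⟨fun (x : U.unop) => if h : x.1 ∈ V.unop then b ⟨x.1, h⟩ else 0, ?_⟩
  funext (x : V.unop)
  change (if h : x.1 ∈ V.unop then b ⟨x.1, h⟩ else 0) = b x
  rw [dif_pos x.2]

instance isFlasque_god : TopCat.Presheaf.IsFlasque (psh (God P) T) where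
  epi {U V} i := by
    have h1 := epi_discr P T i
    have h2 : (psh (God P) T).map i = (pshGodIso P T).inv.app U ≫ (discrPre (fun t => st P T t)).map i ≫
        (pshGodIso P T).hom.app V := by
      rw [(pshGodIso P T).hom.naturality, ← Category.assoc]
      have : (pshGodIso P T).inv.app U ≫ (pshGodIso P T).hom.app U = 𝟙 _ := by
        rw [← NatTrans.comp_app, Iso.inv_hom_id]
        rfl
      rw [this, Category.id_comp]
    rw [h2]
    infer_instance

end Flasque

end K781.God
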