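import Groth.Agent.FibDesc.K781.TotSh

/-!
# The Godement resolution on the total site is a resolution
-/

set_option autoImplicit false
set_option backward.isDefEq.respectTransparency false
set_option backward.isDefEq.respectTransparency.types false

universe u

open CategoryTheory CategoryTheory.Limits ComplexShape Opposite TopologicalSpace FibDesc
  Pseudofunctor.CoGrothendieck

namespace K781.Crit

open K781.Desc K781.God K781.Site

variable {S : TopCat.{u}} (τ : Dpᵒᵖ ⥤ Over S) (P : (Over S)ᵒᵖ ⥤ AddCommGrpCat.{u})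

/-- The Godement resolution as a complex of sheaves on the total site. -/
noncomputable def MM : CochainComplex (Sheaf (KK τ) AddCommGrpCat.{u}) ℤ where
  X j := ⟨(Φ τ).op ⋙ (G P).X j, isSheaf_Φ τ _ (isSheaf_G P j)⟩
  d i j := ⟨Functor.whiskerLeft (Φ τ).op ((G P).d i j)⟩
  shape i j h := by
    rw [(G P).shape i j h]
    rfl
  d_comp_d' i j k _ _ := by
    ext : 1
    change Functor.whiskerLeft (Φ τ).op ((G P).d i j) ≫ Functor.whiskerLeft (Φ τ).op ((G P).d j k) = _
    rw [← Functor.whiskerLeft_comp, (G P).d_comp_d]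
    rfl

/-- The sheaf attached to `P`. -/
noncomputable abbrev RR : Sheaf (KK τ) AddCommGrpCat.{u} :=
  (presheafToSheaf (KK τ) AddCommGrpCat.{u}).obj ((Φ τ).op ⋙ P)

/-- The complex of sheaves is the sheafification of the complex of presheaves. -/
noncomputable def isoMM : ((presheafToSheaf (KK τ) AddCommGrpCat.{u}).mapHomologicalComplex (up ℤ)).obj
    (((wΦ τ).mapHomologicalComplex (up ℤ)).obj (G P)) ≅ MM τ P :=
  HomologicalComplex.Hom.isoOfComponents
    (fun j => (asIso (sheafificationAdjunction (KK τ) AddCommGrpCat.{u}).counit).app ((MM τ P).X j))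
    (fun i j _ => ((sheafificationAdjunction (KK τ) AddCommGrpCat.{u}).counit.naturality ((MM τ P).d i j)).symm)

/-- The complex of sheaves is spliced. -/
noncomputable def dataMM : K781.Spl.Data (MM τ P) :=
  (((GData P).map (wΦ τ)).map (presheafToSheaf (KK τ) AddCommGrpCat.{u})).ofIso (isoMM τ P)

lemma shortExact_map {A B : Type*} [Category* A] [Category* B] [Abelian A] [Abelian B] (F : A ⥤ B) [F.Additive]
    [PreservesFiniteLimits F] [PreservesFiniteColimits F] {X Y Z : A} (f : X ⟶ Y) (g : Y ⟶ Z) (w : f ≫ g = 0)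
    (h : (ShortComplex.mk f g w).Exact) (hg : Epi g) (hf : Mono (F.map f)) :
    (ShortComplex.mk (F.map f) (F.map g) (by rw [← F.map_comp, w, F.map_zero])).ShortExact where
  exact := h.map F
  mono_f := hf
  epi_g := inferInstanceAs (Epi (F.map g))

lemma shortExact_ofIso {A : Type*} [Category* A] [Abelian A] {K L : CochainComplex A ℤ} (h : K781.Spl.Data K)
    (e : K ≅ L) (n : ℕ) (hh : (ShortComplex.mk (h.i n) (h.p n) (h.w n)).ShortExact) :
    (ShortComplex.mk ((h.ofIso e).i n) ((h.ofIso e).p n) ((h.ofIso e).w n)).ShortExact := by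
  refine ShortComplex.shortExact_of_iso (ShortComplex.isoMk (S₁ := ShortComplex.mk (h.i n) (h.p n) (h.w n))
    (S₂ := ShortComplex.mk ((h.ofIso e).i n) ((h.ofIso e).p n) ((h.ofIso e).w n)) (Iso.refl _)
    ((HomologicalComplex.eval A (up ℤ) n).mapIso e) (Iso.refl _) ?_ ?_) hh
  · change 𝟙 _ ≫ h.i n ≫ e.hom.f n = h.i n ≫ e.hom.f n
    rw [Category.id_comp]
  · change e.hom.f n ≫ e.inv.f n ≫ h.p n = h.p n ≫ 𝟙 _
    rw [← Category.assoc, ← HomologicalComplex.comp_f, e.hom_inv_id, Category.comp_id]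
    exact Category.id_comp _

lemma mono_map_of_isLocallyInjective {C : Type u} [SmallCategory C] {J : GrothendieckTopology C}
    {F F' : Cᵒᵖ ⥤ AddCommGrpCat.{u}} (f : F ⟶ F') (hf : Presheaf.IsLocallyInjective J f) :
    Mono ((presheafToSheaf J AddCommGrpCat.{u}).map f) := by
  have h1 := (Presheaf.isLocallyInjective_presheafToSheaf_map_iff J f).2 hf
  exact Sheaf.mono_of_isLocallyInjective _

lemma shortExact_dataMM (n : ℕ) :
    (ShortComplex.mk ((dataMM τ P).i n) ((dataMM τ P).p n) ((dataMM τ P).w n)).ShortExact := by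
  apply shortExact_ofIso
  have h1 : (ShortComplex.mk ((GData P).i n) ((GData P).p n) ((GData P).w n)).Exact := by
    refine (ShortComplex.exact_iff_of_iso (ShortComplex.isoMk
      (S₁ := ShortComplex.mk (toGod (Q P n)) (Qπ P n) (toGod_Qπ P n))
      (S₂ := ShortComplex.mk ((GData P).i n) ((GData P).p n) ((GData P).w n)) (Iso.refl _) (GX P n).symm
      (Iso.refl _) ?_ ?_)).1 (exact_Q P n)
    · change 𝟙 _ ≫ toGod (Q P n) ≫ (GX P n).inv = _
      rw [Category.id_comp]
      rfl
    · change (GX P n).inv ≫ (GX P n).hom ≫ Qπ P n = Qπ P n ≫ 𝟙 _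
      rw [Iso.inv_hom_id_assoc, Category.comp_id]
  have h2 : Epi ((GData P).p n) := by
    change Epi ((GX P n).hom ≫ Qπ P n)
    infer_instance
  have h3 : Mono ((wΦ τ ⋙ presheafToSheaf (KK τ) AddCommGrpCat.{u}).map ((GData P).i n)) := by
    change Mono ((wΦ τ ⋙ presheafToSheaf (KK τ) AddCommGrpCat.{u}).map (toGod (Q P n) ≫ (GX P n).inv))
    rw [Functor.map_comp]
    have h4 : Mono ((wΦ τ ⋙ presheafToSheaf (KK τ) AddCommGrpCat.{u}).map (toGod (Q P n))) :=
      mono_map_of_isLocallyInjective _ (isLocallyInjective_toGod τ (Q P n))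
    infer_instance
  exact shortExact_map (wΦ τ ⋙ presheafToSheaf (KK τ) AddCommGrpCat.{u}) _ _ _ h1 h2 h3

/-- The augmentation of the Godement resolution. -/
noncomputable def rr : (HomologicalComplex.single _ (up ℤ) 0).obj (RR τ P) ⟶ MM τ P := (dataMM τ P).aug

instance quasiIso_rr : QuasiIso (rr τ P) := (dataMM τ P).quasiIso_aug (shortExact_dataMM τ P)

end K781.Crit
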