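import Groth.Agent.FibDesc.K781.Crit
import Mathlib.Algebra.Homology.Functor

/-!
# Stalkwise criterion for cohomological descent
-/

set_option autoImplicit false
set_option backward.isDefEq.respectTransparency false
set_option backward.isDefEq.respectTransparency.types false

universe v v' w u

open CategoryTheory CategoryTheory.Limits ComplexShape Opposite TopologicalSpace FibDesc
  Pseudofunctor.CoGrothendieck

namespace K781.Desc

lemma dd_naturality {F F' : Dp ⥤ AddCommGrpCat.{u}} (i : F ⟶ F') (n : ℕ) (a : F.obj (ob n)) :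
    i.app (ob (n + 1)) (dd ((rF _).obj F) n a) = dd ((rF _).obj F') n (i.app (ob n) a) := by
  have h1 : dd ((rF _).obj F) n ≫ i.app (ob (n + 1)) = i.app (ob n) ≫ dd ((rF _).obj F') n := by
    rw [dd, dd, Preadditive.sum_comp, Preadditive.comp_sum]
    refine Finset.sum_congr rfl fun j _ => ?_
    rw [Preadditive.zsmul_comp, Preadditive.comp_zsmul]
    congr 1
    exact i.naturality _
  exact congr($h1 a)

/-- Filtered colimits of exact rows are exact (elementwise form). -/
theorem Ex.colim {J : Type*} {F : J → Dp ⥤ AddCommGrpCat.{u}} {F' : Dp ⥤ AddCommGrpCat.{u}}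
    (g : ∀ j, F j ⟶ F') (le : J → J → Prop) (r : ∀ j k, le j k → (F j ⟶ F k))
    (hr : ∀ j k (h : le j k), r j k h ≫ g k = g j)
    (surj : ∀ (x : Dp) (a : F'.obj x), ∃ j, ∃ b : (F j).obj x, (g j).app x b = a)
    (inj : ∀ (x : Dp) (j : J) (b : (F j).obj x), (g j).app x b = 0 → ∃ k, ∃ h : le j k, (r j k h).app x b = 0)
    (hF : ∀ j, Ex (F j)) : Ex F' where
  inj x hx := by
    obtain ⟨j, b, rfl⟩ := surj _ x
    have h1 : (g j).app _ ((F j).map (init (ob 0)) b) = 0 := by
      rw [← hx]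
      exact congr($((g j).naturality (init (ob 0))) b)
    obtain ⟨k, hk, e⟩ := inj _ _ _ h1
    have h2 : (F k).map (init (ob 0)) ((r j k hk).app _ b) = 0 := by
      rw [← e]
      exact congr($(((r j k hk).naturality (init (ob 0))).symm) b)
    have h3 := (hF k).inj _ h2
    have h4 : (g k).app _ ((r j k hk).app _ b) = (g j).app _ b :=
      congr($(NatTrans.congr_app (hr j k hk) WithInitial.star) b)
    rw [← h4, h3, map_zero]
  ex₀ x hx := by
    obtain ⟨j, b, rfl⟩ := surj _ x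
    rw [← dd_naturality] at hx
    obtain ⟨k, hk, e⟩ := inj _ _ _ hx
    rw [dd_naturality] at e
    obtain ⟨y, hy⟩ := (hF k).ex₀ _ e
    refine ⟨(g k).app _ y, ?_⟩
    have h4 : (g k).app _ ((r j k hk).app _ b) = (g j).app _ b :=
      congr($(NatTrans.congr_app (hr j k hk) (ob 0)) b)
    rw [← h4, ← hy]
    exact congr($(((g k).naturality (init (ob 0))).symm) y)
  ex n x hx := by
    obtain ⟨j, b, rfl⟩ := surj _ x
    rw [← dd_naturality] at hx
    obtain ⟨k, hk, e⟩ := inj _ _ _ hx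
    rw [dd_naturality] at e
    obtain ⟨y, hy⟩ := (hF k).ex n _ e
    refine ⟨(g k).app _ y, ?_⟩
    have h4 : (g k).app _ ((r j k hk).app _ b) = (g j).app _ b :=
      congr($(NatTrans.congr_app (hr j k hk) (ob (n + 1))) b)
    rw [← h4, ← hy, dd_naturality]

end K781.Desc

namespace K781.Crit

open K781.Desc K781.God K781.Site Groth.Agent.PerfB.DQAdj K61.Fub K781.Row K781.FF K781.Cech K781.Fib

section

variable (Z : Dpᵒᵖ ⥤ TopCat.{u})

/-- The open subset of `Z x` over an open subset of the base. -/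
abbrev uo (x : Dp) (U : Opens (Z.obj (op WithInitial.star))) : Opens (Z.obj (op x)) :=
  (Opens.map (Z.map (init x).op)).obj U

/-- The functor `U ↦ U_x`. -/
noncomputable def κ (x : Dp) : Opens (Z.obj (op WithInitial.star)) ⥤ TZ Z where
  obj U := pt Z (op x) (uo Z x U)
  map {U V} f := ix Z (show uo Z x U ≤ uo Z x V from fun _ hx => f.le hx)
  map_id U := hom_ext' _ _ _ rfl
  map_comp f g := hom_ext' _ _ _ (by
    change 𝟙 _ = 𝟙 _ ≫ 𝟙 _
    rw [Category.comp_id])

/-- Functoriality of `κ`. -/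
noncomputable def κm {x y : Dp} (f : x ⟶ y) : κ Z y ⟶ κ Z x where
  app U := ((σ' Z U).map f).unop
  naturality U V g := hom_ext' _ _ _ (by
    change 𝟙 _ ≫ f.op = f.op ≫ 𝟙 _
    rw [Category.id_comp, Category.comp_id])

/-- Germs along the fibres of one presheaf. -/
noncomputable def nO (s : Z.obj (op WithInitial.star)) (Q : (TZ Z)ᵒᵖ ⥤ AddCommGrpCat.{u}) :
    Dp ⥤ AddCommGrpCat.{u} where
  obj x := (TopCat.Presheaf.stalkFunctor AddCommGrpCat.{u} s).obj ((κ Z x).op ⋙ Q)
  map {x y} f := (TopCat.Presheaf.stalkFunctor AddCommGrpCat.{u} s).map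
    (Functor.whiskerRight (NatTrans.op (κm Z f)) Q)
  map_id x := by
    have h1 : Functor.whiskerRight (NatTrans.op (κm Z (𝟙 x))) Q = 𝟙 _ := by
      apply NatTrans.ext
      funext U
      change Q.map ((σ' Z U.unop).map (𝟙 x)) = 𝟙 _
      rw [(σ' Z U.unop).map_id]
      exact Q.map_id _
    exact (congr_arg (TopCat.Presheaf.stalkFunctor AddCommGrpCat.{u} s).map h1).trans
      ((TopCat.Presheaf.stalkFunctor AddCommGrpCat.{u} s).map_id _)
  map_comp {x y z} f g := by
    have h1 : Functor.whiskerRight (NatTrans.op (κm Z (f ≫ g))) Q =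
        Functor.whiskerRight (NatTrans.op (κm Z f)) Q ≫ Functor.whiskerRight (NatTrans.op (κm Z g)) Q := by
      apply NatTrans.ext
      funext U
      change Q.map ((σ' Z U.unop).map (f ≫ g)) = Q.map ((σ' Z U.unop).map f) ≫ Q.map ((σ' Z U.unop).map g)
      rw [(σ' Z U.unop).map_comp, Q.map_comp]
    exact (congr_arg (TopCat.Presheaf.stalkFunctor AddCommGrpCat.{u} s).map h1).trans
      ((TopCat.Presheaf.stalkFunctor AddCommGrpCat.{u} s).map_comp _ _)

/-- Germs along the fibres. -/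
noncomputable def nS (s : Z.obj (op WithInitial.star)) :
    ((TZ Z)ᵒᵖ ⥤ AddCommGrpCat.{u}) ⥤ (Dp ⥤ AddCommGrpCat.{u}) where
  obj Q := nO Z s Q
  map {Q Q'} φ :=
    { app := fun x => (TopCat.Presheaf.stalkFunctor AddCommGrpCat.{u} s).map (Functor.whiskerLeft (κ Z x).op φ)
      naturality := fun x y f => by
        change (TopCat.Presheaf.stalkFunctor AddCommGrpCat.{u} s).map _ ≫
          (TopCat.Presheaf.stalkFunctor AddCommGrpCat.{u} s).map _ =
          (TopCat.Presheaf.stalkFunctor AddCommGrpCat.{u} s).map _ ≫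
            (TopCat.Presheaf.stalkFunctor AddCommGrpCat.{u} s).map _
        rw [← Functor.map_comp, ← Functor.map_comp]
        refine congr_arg (TopCat.Presheaf.stalkFunctor AddCommGrpCat.{u} s).map (NatTrans.ext ?_)
        funext U
        exact φ.naturality _ }
  map_id Q := by
    apply NatTrans.ext
    funext x
    exact (TopCat.Presheaf.stalkFunctor AddCommGrpCat.{u} s).map_id ((κ Z x).op ⋙ Q)
  map_comp {Q₁ Q₂ Q₃} φ ψ := by
    apply NatTrans.ext
    funext x
    exact (TopCat.Presheaf.stalkFunctor AddCommGrpCat.{u} s).map_comp (Functor.whiskerLeft (κ Z x).op φ)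
      (Functor.whiskerLeft (κ Z x).op ψ)

lemma stalk_map_add {X : TopCat.{u}} (s : X) {F F' : TopCat.Presheaf AddCommGrpCat.{u} X} (f g : F ⟶ F') :
    (TopCat.Presheaf.stalkFunctor AddCommGrpCat.{u} s).map (f + g) =
      (TopCat.Presheaf.stalkFunctor AddCommGrpCat.{u} s).map f +
        (TopCat.Presheaf.stalkFunctor AddCommGrpCat.{u} s).map g :=
  (TopCat.Presheaf.stalkFunctor AddCommGrpCat.{u} s).map_add

instance (s : Z.obj (op WithInitial.star)) : (nS Z s).Additive where
  map_add {Q Q' f g} := by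
    apply NatTrans.ext
    funext x
    exact stalk_map_add s (Functor.whiskerLeft (κ Z x).op f) (Functor.whiskerLeft (κ Z x).op g)

/-- The germ of a section over an open subset of the base. -/
noncomputable def gN (s : Z.obj (op WithInitial.star)) (Q : (TZ Z)ᵒᵖ ⥤ AddCommGrpCat.{u})
    (U : Opens (Z.obj (op WithInitial.star))) (hs : s ∈ U) : σ' Z U ⋙ Q ⟶ nO Z s Q where
  app x := TopCat.Presheaf.germ ((κ Z x).op ⋙ Q) U s hs
  naturality x y f := by
    exact (TopCat.Presheaf.stalkFunctor_map_germ U s hs (Functor.whiskerRight (NatTrans.op (κm Z f)) Q)).symm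

/-- Restriction to a smaller open subset. -/
noncomputable def rN (Q : (TZ Z)ᵒᵖ ⥤ AddCommGrpCat.{u}) {U V : Opens (Z.obj (op WithInitial.star))} (h : V ≤ U) :
    σ' Z U ⋙ Q ⟶ σ' Z V ⋙ Q where
  app x := Q.map ((κ Z x).map (homOfLE h)).op
  naturality x y f := by
    change Q.map _ ≫ Q.map _ = Q.map _ ≫ Q.map _
    rw [← Q.map_comp, ← Q.map_comp]
    congr 1
    exact congr_arg Quiver.Hom.op ((κm Z f).naturality (homOfLE h))

lemma rN_gN (s : Z.obj (op WithInitial.star)) (Q : (TZ Z)ᵒᵖ ⥤ AddCommGrpCat.{u})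
    {U V : Opens (Z.obj (op WithInitial.star))} (h : V ≤ U) (hs : s ∈ V) :
    rN Z Q h ≫ gN Z s Q V hs = gN Z s Q U (h hs) := by
  apply NatTrans.ext
  funext x
  exact TopCat.Presheaf.germ_res ((κ Z x).op ⋙ Q) (homOfLE h) s hs

theorem ex_nS (s : Z.obj (op WithInitial.star)) (Q : (TZ Z)ᵒᵖ ⥤ AddCommGrpCat.{u})
    (h : ∀ U, Ex (σ' Z U ⋙ Q)) : Ex (nO Z s Q) := by
  refine Ex.colim (J := {U : Opens (Z.obj (op WithInitial.star)) // s ∈ U}) (fun U => gN Z s Q U.1 U.2)
    (fun U V => V.1 ≤ U.1) (fun U V hUV => rN Z Q hUV) (fun U V hUV => rN_gN Z s Q hUV V.2) ?_ ?_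
    (fun U => h U.1)
  · intro x a
    obtain ⟨U, hU, b, hb⟩ := TopCat.Presheaf.exists_germ_eq ((κ Z x).op ⋙ Q) a
    exact ⟨⟨U, hU⟩, b, hb⟩
  · intro x U b hb
    obtain ⟨W, hW, iU, iV, e⟩ := TopCat.Presheaf.germ_eq ((κ Z x).op ⋙ Q) s U.2 U.2 b 0 (by
      rw [map_zero]
      exact hb)
    refine ⟨⟨W, hW⟩, iU.le, ?_⟩
    rw [map_zero] at e
    exact e

end

section stk

variable {X : TopCat.{u}} (s : X)

/-- The stalk functor on presheaves. -/
noncomputable abbrev stf : TopCat.Presheaf AddCommGrpCat.{u} X ⥤ AddCommGrpCat.{u} :=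
  TopCat.Presheaf.stalkFunctor AddCommGrpCat.{u} s

instance : PreservesFiniteColimits (stf s) := by
  have : PreservesColimitsOfSize.{0, 0} (stf s) :=
    (Adjunction.ofIsLeftAdjoint (TopCat.Presheaf.stalkFunctor AddCommGrpCat.{u} s)).leftAdjoint_preservesColimits
  exact PreservesColimitsOfSize.preservesFiniteColimits _

lemma mono_stf {F F' : TopCat.Presheaf AddCommGrpCat.{u} X} (f : F ⟶ F') [hf : Mono f] : Mono ((stf s).map f) := by
  rw [AddCommGrpCat.mono_iff_injective, injective_iff_map_eq_zero]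
  intro a ha
  obtain ⟨U, hU, b, rfl⟩ := TopCat.Presheaf.exists_germ_eq F a
  have ha' : TopCat.Presheaf.germ F' U s hU (f.app (op U) b) = 0 := by
    rw [← TopCat.Presheaf.stalkFunctor_map_germ_apply]
    exact ha
  obtain ⟨W, hW, iU, iV, e⟩ := TopCat.Presheaf.germ_eq F' s hU hU (f.app (op U) b) 0 (by
    rw [map_zero]
    exact ha')
  rw [map_zero] at e
  have h1 : f.app (op W) (F.map iU.op b) = 0 := by
    rw [← e]
    exact congr($(f.naturality iU.op) b)
  have h2 : Mono (f.app (op W)) := inferInstance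
  rw [AddCommGrpCat.mono_iff_injective, injective_iff_map_eq_zero] at h2
  have h3 := h2 _ h1
  rw [← TopCat.Presheaf.germ_res_apply F iU s hW, h3, map_zero]

instance : PreservesFiniteLimits (stf s) := by
  have : (stf s).PreservesHomology := by
    simp only [(stf s).exact_tfae.out 2 0]
    intro S h
    have := ((stf s).preservesFiniteColimits_tfae.out 3 0).mp
      (inferInstance : (PreservesFiniteColimits _))
    refine ShortComplex.ShortExact.mk' (this S h).left ?_ (this S h).right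
    have := h.2
    exact mono_stf s _
  exact (stf s).preservesFiniteLimits_of_preservesHomology

end stk


section cmp

variable (Z : Dpᵒᵖ ⥤ TopCat.{u}) (s : Z.obj (op WithInitial.star))

/-- The diagram over the base. -/
noncomputable abbrev lf : Dpᵒᵖ ⥤ Over (Z.obj (op WithInitial.star)) := lift Z (𝟙 _)

/-- Comparison of two families of open subsets. -/
noncomputable def γ (x : Dp) : κ Z x ⋙ Φ (lf Z) ≅ overF ((lf Z).obj (op x)) :=
  NatIso.ofComponents (fun U => Iso.refl _) (fun {U V} f => by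
    rw [Iso.refl_hom, Iso.refl_hom]
    refine (Category.comp_id _).trans (Eq.trans ?_ (Category.id_comp _).symm)
    change (Φ (lf Z)).map (ix Z _) = _
    erw [Φ_ix]
    rfl)

/-- Comparison of germs, components. -/
noncomputable def nIsoApp (Q : (Over (Z.obj (op WithInitial.star)))ᵒᵖ ⥤ AddCommGrpCat.{u}) :
    (lf Z).rightOp ⋙ (gFun s).obj Q ≅ (nS Z s).obj ((Φ (lf Z)).op ⋙ Q) :=
  NatIso.ofComponents (fun x => (TopCat.Presheaf.stalkFunctor AddCommGrpCat.{u} s).mapIso
    (Functor.isoWhiskerRight (NatIso.op (γ Z x)) Q)) (fun {x y} f => by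
      change (TopCat.Presheaf.stalkFunctor AddCommGrpCat.{u} s).map _ ≫
        (TopCat.Presheaf.stalkFunctor AddCommGrpCat.{u} s).map _ =
        (TopCat.Presheaf.stalkFunctor AddCommGrpCat.{u} s).map _ ≫
          (TopCat.Presheaf.stalkFunctor AddCommGrpCat.{u} s).map _
      rw [← Functor.map_comp, ← Functor.map_comp]
      refine congr_arg (TopCat.Presheaf.stalkFunctor AddCommGrpCat.{u} s).map (NatTrans.ext ?_)
      funext U
      change Q.map _ ≫ Q.map (𝟙 _) = Q.map (𝟙 _) ≫ Q.map _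
      rw [Q.map_id, Q.map_id]
      refine (Category.comp_id _).trans (Eq.trans ?_ (Category.id_comp _).symm)
      rfl)

/-- Comparison of germs. -/
noncomputable def nIso : gFun s ⋙ (Functor.whiskeringLeft _ _ AddCommGrpCat.{u}).obj (lf Z).rightOp ≅
    (Functor.whiskeringLeft _ _ AddCommGrpCat.{u}).obj (Φ (lf Z)).op ⋙ nS Z s :=
  NatIso.ofComponents (fun Q => nIsoApp Z s Q) (fun {Q Q'} φ => by
    apply NatTrans.ext
    funext x
    change (TopCat.Presheaf.stalkFunctor AddCommGrpCat.{u} s).map _ ≫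
        (TopCat.Presheaf.stalkFunctor AddCommGrpCat.{u} s).map _ =
        (TopCat.Presheaf.stalkFunctor AddCommGrpCat.{u} s).map _ ≫
          (TopCat.Presheaf.stalkFunctor AddCommGrpCat.{u} s).map _
    rw [← Functor.map_comp, ← Functor.map_comp]
    refine congr_arg (TopCat.Presheaf.stalkFunctor AddCommGrpCat.{u} s).map (NatTrans.ext ?_)
    funext U
    exact (φ.naturality _).symm)

end cmp


section main3

variable {S : TopCat.{u}} (τ : Dpᵒᵖ ⥤ Over S) (P : (Over S)ᵒᵖ ⥤ AddCommGrpCat.{u})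
variable {I : CochainComplex (ShB (Y τ)) ℤ} (hI : ∀ n, Injective (I.X n)) (hI' : ∀ n < 0, IsZero (I.X n))
  (g : (mapCx (il (Y τ))).obj (MM τ P) ⟶ I) [QuasiIso g] (s : (Y τ).obj (op WithInitial.star))

/-- The comparison of germs. -/
noncomputable def φS :
    ((nS (Y τ) s).mapHomologicalComplex (up ℤ)).obj ((mapCx (pre τ)).obj (MM τ P)) ⟶
      ((nS (Y τ) s).mapHomologicalComplex (up ℤ)).obj ((mapCx (pre τ)).obj ((mapCx (ir (Y τ))).obj I)) :=
  ((nS (Y τ) s).mapHomologicalComplex (up ℤ)).map ((mapCx (pre τ)).map (gh g))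

/-- The comparison over the fibre `x`. -/
noncomputable abbrev φx (x : Dp) :=
  (((Functor.whiskeringLeft _ _ AddCommGrpCat.{u}).obj (κ (Y τ) x).op).mapHomologicalComplex (up ℤ)).map
    ((mapCx (pre τ)).map (gh g))

omit [QuasiIso g] in
lemma qAt_φS (x : Dp) :
    QAt (φS τ P g s) x ↔ QuasiIso (((stf s).mapHomologicalComplex (up ℤ)).map (φx τ P g x)) := Iff.rfl

include hI hI' in
lemma qAt_φS_ob (n : ℕ) : QAt (φS τ P g s) (ob n) := by
  have hBI : BB I := ⟨0, hI'⟩
  rw [qAt_φS]
  have h1 : QuasiIso (φx τ P g (ob n)) := by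
    rw [HomologicalComplex.quasiIso_iff_evaluation]
    intro U
    let y : ∫ᶜ (part (topAug (Y τ))) :=
      ⟨op (SimplexCategory.mk n), (Opens.map ((Y τ).map (init (ob n)).op)).obj U.unop⟩
    refine (quasiIso_gh_iff g y).2 (quasiIso_evB (Y τ) g (bb_map (il (Y τ)) (bb_MM τ P)) hBI y ?_ ?_)
    · exact fun j => isFlasque_rB_MM τ P j y.base
    · intro j
      have := hI j
      exact isFlasque_rB_of_injective (Y τ) (I.X j) y.base
  infer_instance

/-- The stalk of the restriction to the base. -/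
noncomputable def κEps (Z : Dpᵒᵖ ⥤ TopCat.{u}) : κ Z WithInitial.star ≅ eps (topAug Z) :=
  have h : ∀ U : Opens (Z.obj (op WithInitial.star)), uo Z WithInitial.star U = U := fun U => by
    have h1 : init WithInitial.star = 𝟙 (WithInitial.star : Dp) := WithInitial.starInitial.hom_ext _ _
    rw [uo, h1, op_id, Z.map_id]
    rfl
  NatIso.ofComponents (fun U => ⟨ix Z (h U).le, ix Z (h U).ge, hom_ext' _ _ _ (by
      change 𝟙 _ ≫ 𝟙 _ = 𝟙 _
      rw [Category.comp_id]), hom_ext' _ _ _ (by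
      change 𝟙 _ ≫ 𝟙 _ = 𝟙 _
      rw [Category.comp_id])⟩) (fun {U V} f => hom_ext' _ _ _ (by
      change 𝟙 _ ≫ 𝟙 _ = 𝟙 _ ≫ 𝟙 _
      rfl))

/-- The stalk of the restriction to the base. -/
noncomputable def stIso (Z : Dpᵒᵖ ⥤ TopCat.{u}) (s : Z.obj (op WithInitial.star)) :
    (sheafToPresheaf (totAug (topAug Z) (topAugTop Z)) AddCommGrpCat.{u} ⋙
      (Functor.whiskeringLeft _ _ AddCommGrpCat.{u}).obj (κ Z WithInitial.star).op ⋙ stf s) ≅
      er Z ⋙ K781.Flq.stk s :=
  NatIso.ofComponents (fun F => (stf s).mapIso (Functor.isoWhiskerRight (NatIso.op (κEps Z)).symm F.obj))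
    (fun {F F'} f => by
      change (stf s).map _ ≫ (stf s).map _ = (stf s).map _ ≫ (stf s).map _
      rw [← Functor.map_comp, ← Functor.map_comp]
      refine congr_arg (stf s).map (NatTrans.ext ?_)
      funext U
      exact (f.hom.naturality _).symm)

instance additive_stf₁ (Z : Dpᵒᵖ ⥤ TopCat.{u}) (s : Z.obj (op WithInitial.star)) :
    (sheafToPresheaf (totAug (topAug Z) (topAugTop Z)) AddCommGrpCat.{u} ⋙
      (Functor.whiskeringLeft _ _ AddCommGrpCat.{u}).obj (κ Z WithInitial.star).op ⋙ stf s).Additive where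
  map_add {_ _ f g} := stalk_map_add s (Functor.whiskerLeft (κ Z WithInitial.star).op f.hom)
    (Functor.whiskerLeft (κ Z WithInitial.star).op g.hom)

instance additive_stf₂ (Z : Dpᵒᵖ ⥤ TopCat.{u}) (s : Z.obj (op WithInitial.star)) :
    (er Z ⋙ K781.Flq.stk s).Additive where
  map_add {_ _ f g} := stalk_map_add s ((er Z).map f).hom ((er Z).map g).hom

omit [QuasiIso g] in
lemma qAt_φS_star : QAt (φS τ P g s) WithInitial.star ↔
    QuasiIso ((mapCx (K781.Flq.stk s)).map ((mapCx (er (Y τ))).map (gh g))) := by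
  rw [qAt_φS]
  constructor
  · intro h
    exact quasiIso_of_natIso (stIso (Y τ) s) (gh g) h
  · intro h
    exact quasiIso_of_natIso (stIso (Y τ) s).symm (gh g) h

include hI hI' in
theorem isDesc_nS_iff :
    IsDesc (((nS (Y τ) s).mapHomologicalComplex (up ℤ)).obj ((mapCx (pre τ)).obj (MM τ P))) ↔
      QuasiIso ((mapCx (K781.Flq.stk s)).map ((mapCx (er (Y τ))).map (gh g))) := by
  have hBI : BB I := ⟨0, hI'⟩
  rw [← qAt_φS_star]
  refine isDesc_iff_of_res (bb_map (nS (Y τ) s) (bb_map (pre τ) (bb_MM τ P)))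
    (bb_map (nS (Y τ) s) (bb_map (pre τ) (bb_map (ir (Y τ)) hBI))) (φS τ P g s)
    (fun n => qAt_φS_ob τ P hI hI' g s n) ?_
  intro q
  have := hI q
  refine augExact_of_ex (ex_nS (Y τ) s _ fun U => ?_)
  exact ex_of_augExact (augExact_ir (Y τ) (I.X q) U)

include hI hI' in
theorem quasiIso_er_gh_of_stalks
    (h : ∀ s : (Y τ).obj (op WithInitial.star),
      IsDesc (((nS (Y τ) s).mapHomologicalComplex (up ℤ)).obj ((mapCx (pre τ)).obj (MM τ P)))) :
    QuasiIso ((mapCx (er (Y τ))).map (gh g)) := by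
  refine K781.Flq.quasiIso_of_stalks (K := (mapCx (er (Y τ))).obj (MM τ P))
      (L := (mapCx (er (Y τ))).obj ((mapCx (ir (Y τ))).obj I)) ((mapCx (er (Y τ))).map (gh g)) fun s => ?_
  exact (isDesc_nS_iff τ P hI hI' g s).1 (h s)

end main3

/-- Stalkwise criterion for cohomological descent. -/
theorem crit₃ (Z : Dpᵒᵖ ⥤ TopCat.{u})
    (h : ∀ (P : (Over (Z.obj (op .star)))ᵒᵖ ⥤ AddCommGrpCat.{u}), IsCart P → ∀ s : Z.obj (op .star),
      IsDesc (rs (lift Z (𝟙 _)).rightOp (((gFun s).mapHomologicalComplex (up ℤ)).obj (G P)))) :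
    IsCohDescentTop Z := by
  rw [isCohDescentTop_iff]
  intro L
  obtain ⟨P, hP, ⟨e⟩⟩ := exists_RR Z L
  refine UnitOK.of_iso _ e ?_
  have := isIso_counit_RR (lf Z) hP
  intro I hI hI' ψ hψ
  obtain ⟨g, hg, hg'⟩ := unit_reduction (adjE (Y (lf Z))) (adjI (Y (lf Z))) (rr (lf Z) P) hI hI' ψ
  refine hg'.2 (quasiIso_er_gh_of_stalks (lf Z) P hI hI' g fun s => ?_)
  have h1 := h P hP s
  let E := (NatIso.mapHomologicalComplex (nIso Z s) (up ℤ)).app (G P)
  have h2 : BB (G P) := bb_G P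
  refine (isDesc_iff_of_quasi ?_ ?_ E.hom fun x => ?_).1 h1
  · exact bb_map (gFun s ⋙ (Functor.whiskeringLeft _ _ AddCommGrpCat.{u}).obj (lf Z).rightOp) h2
  · exact bb_map ((Functor.whiskeringLeft _ _ AddCommGrpCat.{u}).obj (Φ (lf Z)).op ⋙ nS Z s) h2
  · unfold QAt
    infer_instance

end K781.Crit
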