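import Mathlib.Topology.Sheaves.Stalks
import Mathlib.Topology.Sheaves.Functors
import Mathlib.Topology.Sheaves.Abelian
import Mathlib.Topology.Sheaves.SheafOfFunctions
import Mathlib.Topology.Sheaves.Flasque
import Mathlib.Topology.Category.TopCat.Opens
import Mathlib.CategoryTheory.Comma.Over.Basic
import Mathlib.Algebra.Category.Grp.FilteredColimits
import Mathlib.Algebra.Category.Grp.Limits
import Mathlib.Algebra.Category.Grp.Abelian
import Mathlib.CategoryTheory.Abelian.FunctorCategory

/-!
# Presheaves of abelian groups on the category of spaces over `S`: restriction to small sites and stalks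
-/

set_option autoImplicit false
set_option backward.isDefEq.respectTransparency false
set_option backward.isDefEq.respectTransparency.types false

universe u

open CategoryTheory CategoryTheory.Limits Opposite TopologicalSpace

namespace K781.God

variable {S : TopCat.{u}}

/-- An open subset of a space over `S`, as a space over `S`. -/
def sub (T : Over S) (U : Opens T.left) : Over S := Over.mk (Opens.inclusion' U ≫ T.hom)

/-- The inclusion. -/
def subι (T : Over S) (U : Opens T.left) : sub T U ⟶ T := Over.homMk (Opens.inclusion' U) rfl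

instance (T : Over S) (U : Opens T.left) : Mono (subι T U) where
  right_cancellation f g h := by
    apply Over.OverMorphism.ext
    ext x
    have h1 := congr_arg (fun k => k.left x) h
    exact Subtype.ext h1

/-- Restriction of a morphism over `S` to open subsets. -/
def subRes {T T' : Over S} (h : T' ⟶ T) (U' : Opens T'.left) (U : Opens T.left)
    (hU : ∀ x, x ∈ U' → h.left x ∈ U) : sub T' U' ⟶ sub T U :=
  Over.homMk (TopCat.ofHom ⟨fun x => ⟨h.left x.1, hU x.1 x.2⟩,
    Continuous.subtype_mk (h.left.hom.continuous.comp continuous_subtype_val) _⟩) (by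
      ext x
      exact congr_arg (fun k => k x.1) (Over.w h))

@[reassoc (attr := simp)]
lemma subRes_ι {T T' : Over S} (h : T' ⟶ T) (U' : Opens T'.left) (U : Opens T.left)
    (hU : ∀ x, x ∈ U' → h.left x ∈ U) : subRes h U' U hU ≫ subι T U = subι T' U' ≫ h := by
  apply Over.OverMorphism.ext
  rfl

lemma sub_hom_ext {T T' : Over S} {U : Opens T.left} {f g : T' ⟶ sub T U} (h : f ≫ subι T U = g ≫ subι T U) :
    f = g := (cancel_mono _).1 h

/-- The inclusion of open subsets. -/
abbrev subMap (T : Over S) {U V : Opens T.left} (h : U ≤ V) : sub T U ⟶ sub T V :=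
  subRes (𝟙 T) U V (fun _ hx => h hx)

@[reassoc (attr := simp)]
lemma subMap_ι (T : Over S) {U V : Opens T.left} (h : U ≤ V) : subMap T h ≫ subι T V = subι T U := by
  rw [subRes_ι, Category.comp_id]

/-- The functor from the opens of `T` to spaces over `S`. -/
@[simps]
def subF (T : Over S) : Opens T.left ⥤ Over S where
  obj U := sub T U
  map f := subMap T f.le
  map_id U := sub_hom_ext (by simp)
  map_comp f g := sub_hom_ext (by simp)

/-- The presheaf on `T` of a presheaf on spaces over `S`. -/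
abbrev psh (P : (Over S)ᵒᵖ ⥤ AddCommGrpCat.{u}) (T : Over S) : TopCat.Presheaf AddCommGrpCat.{u} T.left :=
  (subF T).op ⋙ P

/-- The stalk. -/
noncomputable abbrev st (P : (Over S)ᵒᵖ ⥤ AddCommGrpCat.{u}) (T : Over S) (t : T.left) : AddCommGrpCat.{u} :=
  TopCat.Presheaf.stalk (psh P T) t

/-- The germ of a section over an open subset. -/
noncomputable abbrev gm (P : (Over S)ᵒᵖ ⥤ AddCommGrpCat.{u}) (T : Over S) (t : T.left) (U : Opens T.left)
    (ht : t ∈ U) : P.obj (op (sub T U)) ⟶ st P T t :=
  TopCat.Presheaf.germ (psh P T) U t ht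

variable (P : (Over S)ᵒᵖ ⥤ AddCommGrpCat.{u})

lemma mm {X Y Z : Over S} (f : X ⟶ Y) (g : Y ⟶ Z) (x : P.obj (op Z)) :
    P.map f.op (P.map g.op x) = P.map (f ≫ g).op x := by
  rw [op_comp, P.map_comp]
  rfl

lemma mm' {X Y Z : Over S} (f : X ⟶ Y) (g : Y ⟶ Z) (h : X ⟶ Z) (e : f ≫ g = h) (x : P.obj (op Z)) :
    P.map f.op (P.map g.op x) = P.map h.op x := by
  rw [mm, e]

lemma m1 {X : Over S} (f : X ⟶ X) (h : f = 𝟙 X) (x : P.obj (op X)) : P.map f.op x = x := by
  rw [h, op_id, P.map_id]
  rfl

lemma gm_res {T : Over S} {t : T.left} {U V : Opens T.left} (h : U ≤ V) (ht : t ∈ U)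
    (x : P.obj (op (sub T V))) : gm P T t U ht (P.map (subMap T h).op x) = gm P T t V (h ht) x :=
  TopCat.Presheaf.germ_res_apply (psh P T) (homOfLE h) t ht x

lemma exists_gm {T : Over S} {t : T.left} (a : st P T t) :
    ∃ (U : Opens T.left) (ht : t ∈ U) (x : P.obj (op (sub T U))), gm P T t U ht x = a :=
  TopCat.Presheaf.exists_germ_eq (psh P T) a

lemma gm_eq {T : Over S} {t : T.left} {U V : Opens T.left} (hU : t ∈ U) (hV : t ∈ V)
    (x : P.obj (op (sub T U))) (y : P.obj (op (sub T V))) (h : gm P T t U hU x = gm P T t V hV y) :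
    ∃ (W : Opens T.left) (_ : t ∈ W) (hWU : W ≤ U) (hWV : W ≤ V),
      P.map (subMap T hWU).op x = P.map (subMap T hWV).op y := by
  obtain ⟨W, hW, iU, iV, e⟩ := TopCat.Presheaf.germ_eq (psh P T) t hU hV x y h
  exact ⟨W, hW, iU.le, iV.le, e⟩

lemma gm_eq_zero {T : Over S} {t : T.left} {U : Opens T.left} (hU : t ∈ U)
    (x : P.obj (op (sub T U))) (h : gm P T t U hU x = 0) :
    ∃ (W : Opens T.left) (_ : t ∈ W) (hWU : W ≤ U), P.map (subMap T hWU).op x = 0 := by
  obtain ⟨W, hW, iU, iV, e⟩ := gm_eq P hU hU x 0 (by rw [h, map_zero])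
  exact ⟨W, hW, iU, by rw [e, map_zero]⟩

/-- Restriction along a morphism, as a morphism of presheaves. -/
def resP {T T' : Over S} (h : T' ⟶ T) :
    psh P T ⟶ (TopCat.Presheaf.pushforward AddCommGrpCat.{u} h.left).obj (psh P T') where
  app U := P.map (subRes h ((Opens.map h.left).obj U.unop) U.unop (fun _ hx => hx)).op
  naturality U V i := by
    ext x
    change P.map (subRes h ((Opens.map h.left).obj V.unop) V.unop (fun _ hx => hx)).op
      (P.map (subMap T i.unop.le).op x) = P.map (subMap T' (fun _ hx => i.unop.le hx)).op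
        (P.map (subRes h ((Opens.map h.left).obj U.unop) U.unop (fun _ hx => hx)).op x)
    rw [mm, mm]
    congr 3

/-- Restriction on stalks. -/
noncomputable def stRes {T T' : Over S} (h : T' ⟶ T) (t : T'.left) : st P T (h.left t) ⟶ st P T' t :=
  (TopCat.Presheaf.stalkFunctor AddCommGrpCat.{u} (h.left t)).map (resP P h) ≫
    TopCat.Presheaf.stalkPushforward AddCommGrpCat.{u} h.left (psh P T') t

lemma stRes_gm {T T' : Over S} (h : T' ⟶ T) (t : T'.left) (U : Opens T.left) (hU : h.left t ∈ U)
    (U' : Opens T'.left) (hU' : t ∈ U') (hUU' : ∀ x, x ∈ U' → h.left x ∈ U) (x : P.obj (op (sub T U))) :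
    stRes P h t (gm P T (h.left t) U hU x) = gm P T' t U' hU' (P.map (subRes h U' U hUU').op x) := by
  have h1 : stRes P h t (gm P T (h.left t) U hU x) = gm P T' t ((Opens.map h.left).obj U) hU
      (P.map (subRes h ((Opens.map h.left).obj U) U (fun _ hx => hx)).op x) := by
    have h2 : gm P T (h.left t) U hU ≫ stRes P h t =
        P.map (subRes h ((Opens.map h.left).obj U) U (fun _ hx => hx)).op ≫
          gm P T' t ((Opens.map h.left).obj U) hU := by
      rw [stRes]
      erw [TopCat.Presheaf.stalkFunctor_map_germ_assoc, TopCat.Presheaf.stalkPushforward_germ]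
      rfl
    exact congr($h2 x)
  have h3 : U' ≤ (Opens.map h.left).obj U := fun x hx => hUU' x hx
  rw [h1, ← gm_res P h3 hU']
  congr 1
  exact mm' P _ _ _ (sub_hom_ext (by simp)) x

lemma stRes_id {T : Over S} (t : T.left) (a : st P T t) : stRes P (𝟙 T) t a = a := by
  obtain ⟨U, ht, x, rfl⟩ := exists_gm P a
  have h1 := stRes_gm P (𝟙 T) t U ht U ht (fun _ hx => hx) x
  have h2 : subRes (𝟙 T) U U (fun _ hx => hx) = 𝟙 _ := sub_hom_ext (by simp)
  exact h1.trans (congrArg _ (m1 P _ h2 x))

lemma stRes_comp {T T' T'' : Over S} (g : T'' ⟶ T') (h : T' ⟶ T) (t : T''.left)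
    (a : st P T (h.left (g.left t))) : stRes P (g ≫ h) t a = stRes P g t (stRes P h (g.left t) a) := by
  obtain ⟨U, ht, x, rfl⟩ := exists_gm P a
  have h1 := stRes_gm P (g ≫ h) t U ht ((Opens.map g.left).obj ((Opens.map h.left).obj U)) ht
    (fun _ hx => hx) x
  have h2 := stRes_gm P h (g.left t) U ht ((Opens.map h.left).obj U) ht (fun _ hx => hx) x
  have h3 := stRes_gm P g t ((Opens.map h.left).obj U) ht ((Opens.map g.left).obj ((Opens.map h.left).obj U))
    ht (fun _ hx => hx) (P.map (subRes h ((Opens.map h.left).obj U) U (fun _ hx => hx)).op x)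
  rw [h2, h3]
  refine h1.trans ?_
  congr 1
  exact (mm' P _ _ _ (sub_hom_ext (by simp)) x).symm

section Open

variable (T : Over S) (U : Opens T.left) (W : Opens (sub T U).left)

/-- The image in `T` of an open subset of an open subset. -/
def im : Opens T.left where
  carrier := {t | ∃ h : t ∈ U, (⟨t, h⟩ : U) ∈ W}
  is_open' := by
    let W' : Opens U := W
    have : {t : T.left | ∃ h : t ∈ U, (⟨t, h⟩ : U) ∈ W'} = Subtype.val '' (W' : Set U) := by
      ext t
      simp [Set.mem_image]
    change IsOpen {t : T.left | ∃ h : t ∈ U, (⟨t, h⟩ : U) ∈ W'}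
    rw [this]
    exact U.2.isOpenMap_subtype_val _ W'.2

/-- The comparison of open subsets. -/
def imTo : sub T (im T U W) ⟶ sub (sub T U) W :=
  Over.homMk (TopCat.ofHom ⟨fun t => ⟨⟨t.1, t.2.1⟩, t.2.2⟩,
    Continuous.subtype_mk (Continuous.subtype_mk continuous_subtype_val _) _⟩) rfl

@[reassoc (attr := simp)]
lemma imTo_ι_ι : imTo T U W ≫ subι (sub T U) W ≫ subι T U = subι T (im T U W) := rfl

lemma stRes_injective (t : (sub T U).left) (a : st P T ((subι T U).left t)) (h : stRes P (subι T U) t a = 0) :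
    a = 0 := by
  obtain ⟨V, hV, x, rfl⟩ := exists_gm P a
  rw [stRes_gm P (subι T U) t V hV ((Opens.map (subι T U).left).obj V) hV (fun _ hx => hx) x] at h
  obtain ⟨W, hW, hWV, e⟩ := gm_eq_zero P _ _ h
  have hle : im T U W ≤ V := fun y hy => hWV hy.2
  have e2 : P.map (subMap T hle).op x = 0 := by
    have h3 : subMap T hle = imTo T U W ≫ subMap (sub T U) hWV ≫
        subRes (subι T U) ((Opens.map (subι T U).left).obj V) V (fun _ hx => hx) := sub_hom_ext (by simp)
    rw [h3, ← mm, ← mm, e, map_zero]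
  have h5 := gm_res P hle (show (subι T U).left t ∈ im T U W from ⟨t.2, hW⟩) x
  rw [e2, map_zero] at h5
  exact h5.symm

lemma stRes_surjective (t : (sub T U).left) (b : st P (sub T U) t) :
    ∃ a : st P T ((subι T U).left t), stRes P (subι T U) t a = b := by
  obtain ⟨W, hW, y, rfl⟩ := exists_gm P b
  refine ⟨gm P T ((subι T U).left t) (im T U W) ⟨t.2, hW⟩ (P.map (imTo T U W).op y), ?_⟩
  rw [stRes_gm P (subι T U) t (im T U W) ⟨t.2, hW⟩ W hW (fun x hx => ⟨x.2, hx⟩)]
  have h3 : subRes (subι T U) W (im T U W) (fun x hx => ⟨x.2, hx⟩) ≫ imTo T U W = 𝟙 _ :=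
    sub_hom_ext ((cancel_mono (subι T U)).1 (by simp))
  rw [mm, m1 P _ h3]

end Open

end K781.God
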